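import Groth.Agent.InjHull.Prime
import Groth.Agent.RegLoc.AdicNoeth
import Mathlib.RingTheory.Length
import Mathlib.RingTheory.Artinian.Module
import Mathlib.RingTheory.AdicCompletion.Algebra
import Mathlib.LinearAlgebra.Dimension.Finite
import Mathlib.RingTheory.Nakayama
import Mathlib.RingTheory.Ideal.KrullsHeightTheorem

/-!
# Matlis duality over a local ring with an injective hull of the residue field
-/

set_option autoImplicit false

universe u

namespace Groth.Agent.InjHull.Matlis

open IsLocalRing Groth.Agent.InjHull.Basic Groth.Agent.InjHull.Noetherian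

variable {R : Type u} [CommRing R] [IsLocalRing R]
variable {E : Type u} [AddCommGroup E] [Module R E] {f : ResidueField R →ₗ[R] E}

theorem residue_smul_eq_zero {a : R} (ha : a ∈ maximalIdeal R) (c : ResidueField R) : a • c = 0 :=
  (Prime.smul_eq_zero_of_prime (maximalIdeal R)).mpr (Or.inl ha)

theorem exists_apply_ne_zero (hf : _root_.InjHull.IsInjectiveHull f) {G : Type u} [AddCommGroup G]
    [Module R G] {x : G} (hx : x ≠ 0) : ∃ φ : G →ₗ[R] E, φ x ≠ 0 := by
  let μ := LinearMap.toSpanSingleton R G x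
  let ν : R →ₗ[R] E := f.comp (Algebra.linearMap R (ResidueField R))
  have hker : LinearMap.ker μ ≤ LinearMap.ker ν := by
    intro a ha
    have ham : a ∈ maximalIdeal R := by
      refine (mem_maximalIdeal a).mpr fun hu => hx ?_
      exact hu.smul_eq_zero.mp (by simpa [μ] using ha)
    rw [LinearMap.mem_ker, LinearMap.comp_apply, Algebra.linearMap_apply,
      Algebra.algebraMap_eq_smul_one, residue_smul_eq_zero ham, map_zero]
  let g : LinearMap.range μ →ₗ[R] E :=
    ((LinearMap.ker μ).liftQ ν hker).comp μ.quotKerEquivRange.symm.toLinearMap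
  obtain ⟨φ, hφ⟩ := extend hf.isInjective (LinearMap.range μ).subtype (Submodule.injective_subtype _) g
  refine ⟨φ, fun h0 => one_ne_zero (α := ResidueField R) (hf.injective ?_)⟩
  have e1 : μ.quotKerEquivRange.symm ⟨μ 1, ⟨1, rfl⟩⟩ = Submodule.Quotient.mk 1 :=
    (LinearEquiv.symm_apply_eq _).mpr rfl
  have e2 := LinearMap.congr_fun hφ ⟨μ 1, ⟨1, rfl⟩⟩
  simp only [LinearMap.comp_apply, Submodule.subtype_apply, g, LinearEquiv.coe_coe, e1,
    Submodule.liftQ_apply] at e2
  rw [show μ 1 = x from one_smul _ _, h0] at e2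
  rw [map_zero, ← map_one (algebraMap R (ResidueField R))]
  exact e2.symm

theorem applyₗ_injective (hf : _root_.InjHull.IsInjectiveHull f) (G : Type u) [AddCommGroup G]
    [Module R G] : Function.Injective (LinearMap.applyₗ : G →ₗ[R] (G →ₗ[R] E) →ₗ[R] E) := by
  rw [← LinearMap.ker_eq_bot, Submodule.eq_bot_iff]
  intro x hx
  by_contra hx0
  obtain ⟨φ, hφ⟩ := exists_apply_ne_zero hf hx0
  exact hφ (LinearMap.congr_fun (LinearMap.mem_ker.mp hx) φ)

theorem annihilator_dual (hf : _root_.InjHull.IsInjectiveHull f) (G : Type u) [AddCommGroup G]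
    [Module R G] : Module.annihilator R G = Module.annihilator R (G →ₗ[R] E) := by
  ext a
  simp only [Module.mem_annihilator]
  constructor
  · intro h φ
    ext x
    rw [LinearMap.smul_apply, ← map_smul, h x, map_zero, LinearMap.zero_apply]
  · intro h x
    by_contra hx0
    obtain ⟨φ, hφ⟩ := exists_apply_ne_zero hf hx0
    exact hφ (by rw [map_smul, ← LinearMap.smul_apply, h φ, LinearMap.zero_apply])

theorem mem_range_iff (hf : _root_.InjHull.IsInjectiveHull f) {x : E} :
    x ∈ LinearMap.range f ↔ ∀ a ∈ maximalIdeal R, a • x = 0 := by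
  constructor
  · rintro ⟨c, rfl⟩ a ha
    rw [← map_smul, residue_smul_eq_zero ha, map_zero]
  · intro h
    by_cases hx : x = 0
    · exact hx ▸ zero_mem _
    obtain ⟨r, m, hm, hr0⟩ := exists_smul_mem_range hf.toIsEssentialInj hx
    have hu : IsUnit r := by
      by_contra hn
      exact hr0 (h r ((mem_maximalIdeal r).mpr hn))
    refine ⟨((hu.unit⁻¹ : Rˣ) : R) • m, ?_⟩
    rw [map_smul, hm, smul_smul, IsUnit.val_inv_mul, one_smul]

theorem dual_residueField (hf : _root_.InjHull.IsInjectiveHull f) :
    Nonempty ((ResidueField R →ₗ[R] E) ≃ₗ[R] ResidueField R) := by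
  refine ⟨(LinearEquiv.ofBijective
    ({ toFun := fun c => f.comp (LinearMap.mulLeft R c)
       map_add' := fun a b => by ext x; simp [add_mul]
       map_smul' := fun a b => by ext x; simp } :
      ResidueField R →ₗ[R] (ResidueField R →ₗ[R] E)) ⟨fun a b h => ?_, fun φ => ?_⟩).symm⟩
  · have := LinearMap.congr_fun h 1
    exact hf.injective (by simpa using this)
  · have hmem : φ 1 ∈ LinearMap.range f := (mem_range_iff hf).mpr fun a ha => by
      rw [← map_smul, residue_smul_eq_zero ha, map_zero]
    obtain ⟨c, hc⟩ := hmem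
    refine ⟨c, LinearMap.ext fun y => ?_⟩
    obtain ⟨r, rfl⟩ := residue_surjective (R := R) y
    change f (c * residue R r) = φ (residue R r)
    have e : residue R r = r • (1 : ResidueField R) :=
      (mul_one _).symm.trans (Algebra.smul_def r (1 : ResidueField R)).symm
    rw [e, map_smul, ← hc, ← map_smul, mul_smul_comm, mul_one]

theorem length_dual (hf : _root_.InjHull.IsInjectiveHull f) {M : Type u} [AddCommGroup M]
    [Module R M] (hM : IsFiniteLength R M) : Module.length R (M →ₗ[R] E) = Module.length R M := by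
  induction hM with
  | of_subsingleton => rw [Module.length_eq_zero, Module.length_eq_zero]
  | @of_simple_quotient M _ _ N hs hN ih =>
    obtain ⟨I, hI, ⟨e⟩⟩ := isSimpleModule_iff_quot_maximal.mp hs
    obtain rfl : I = maximalIdeal R := IsLocalRing.eq_maximalIdeal hI
    have hrest : Function.Surjective (LinearMap.lcomp R E N.subtype) := fun φ =>
      extend hf.isInjective N.subtype N.injective_subtype φ
    have hinj : Function.Injective (LinearMap.lcomp R E N.mkQ) := fun a b h =>
      Submodule.linearMap_qext _ h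
    have hex : Function.Exact (LinearMap.lcomp R E N.mkQ) (LinearMap.lcomp R E N.subtype) := by
      intro φ
      constructor
      · intro h
        have hle : N ≤ LinearMap.ker φ := fun x hx => LinearMap.congr_fun h ⟨x, hx⟩
        exact ⟨N.liftQ φ hle, Submodule.liftQ_mkQ N φ hle⟩
      · rintro ⟨ψ, rfl⟩
        ext x
        change ψ (Submodule.Quotient.mk (x : M)) = 0
        rw [(Submodule.Quotient.mk_eq_zero N).mpr x.2, map_zero]
    rw [Module.length_eq_add_of_exact _ _ hinj hrest hex,
      Module.length_eq_add_of_exact N.subtype N.mkQ N.injective_subtype N.mkQ_surjective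
        (LinearMap.exact_subtype_mkQ N), ih, add_comm (Module.length R N)]
    congr 1
    obtain ⟨e'⟩ := dual_residueField hf
    exact ((LinearEquiv.congrLeft E R e).trans e').length_eq.trans e.symm.length_eq

theorem applyₗ_bijective (hf : _root_.InjHull.IsInjectiveHull f) {M : Type u} [AddCommGroup M]
    [Module R M] (hM : IsFiniteLength R M) :
    Function.Bijective (LinearMap.applyₗ : M →ₗ[R] (M →ₗ[R] E) →ₗ[R] E) := by
  have hinj := applyₗ_injective hf M
  refine ⟨hinj, ?_⟩
  have h1 : Module.length R (M →ₗ[R] E) = Module.length R M := length_dual hf hM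
  have hdual : IsFiniteLength R (M →ₗ[R] E) := by
    rw [← Module.length_ne_top_iff, h1]
    exact Module.length_ne_top_iff.mpr hM
  have h2 : Module.length R ((M →ₗ[R] E) →ₗ[R] E) = Module.length R M :=
    (length_dual hf hdual).trans h1
  let Φ : M →ₗ[R] (M →ₗ[R] E) →ₗ[R] E := LinearMap.applyₗ
  have h3 := Module.length_eq_add_of_exact Φ (LinearMap.range Φ).mkQ hinj
    (Submodule.mkQ_surjective _) (LinearMap.exact_map_mkQ_range Φ)
  rw [h2] at h3
  have h4 : Module.length R (((M →ₗ[R] E) →ₗ[R] E) ⧸ LinearMap.range Φ) = 0 :=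
    (WithTop.add_left_cancel (Module.length_ne_top_iff.mpr hM)
      ((add_zero _).trans h3)).symm
  rw [← LinearMap.range_eq_top]
  exact Submodule.Quotient.subsingleton_iff.mp (Module.length_eq_zero_iff.mp h4)

section PowerTorsion

theorem exists_smul_socle {M : Type u} [AddCommGroup M] [Module R M]
    (hM : LocCoh.IsPowerTorsion (maximalIdeal R) M) {x : M} (hx : x ≠ 0) :
    ∃ r : R, r • x ≠ 0 ∧ ∀ a ∈ maximalIdeal R, a • (r • x) = 0 := by
  classical
  have h := hM x
  have h0 : Nat.find h ≠ 0 := by
    intro h0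
    have := Nat.find_spec h
    rw [h0] at this
    exact hx (by simpa using this 1 (by simp))
  obtain ⟨k, hk⟩ := Nat.exists_eq_succ_of_ne_zero h0
  have hk' := Nat.find_min h (show k < Nat.find h by omega)
  push Not at hk'
  obtain ⟨r, hr, hr0⟩ := hk'
  refine ⟨r, hr0, fun a ha => ?_⟩
  rw [smul_smul]
  exact Nat.find_spec h _ (by rw [hk, pow_succ', mul_comm a r, mul_comm (maximalIdeal R)]; exact Ideal.mul_mem_mul hr ha)

theorem injective_of_socle {M P : Type u} [AddCommGroup M] [Module R M] [AddCommGroup P]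
    [Module R P] (hM : LocCoh.IsPowerTorsion (maximalIdeal R) M) (g : M →ₗ[R] P)
    (h : ∀ x : M, (∀ a ∈ maximalIdeal R, a • x = 0) → g x = 0 → x = 0) :
    Function.Injective g := by
  rw [← LinearMap.ker_eq_bot, Submodule.eq_bot_iff]
  intro x hx
  by_contra hx0
  obtain ⟨r, hr0, hr⟩ := exists_smul_socle hM hx0
  exact hr0 (h _ hr (by rw [map_smul, LinearMap.mem_ker.mp hx, smul_zero]))

theorem embeds_in_power (hf : _root_.InjHull.IsInjectiveHull f) {M : Type u} [AddCommGroup M]
    [Module R M] (hM : LocCoh.IsPowerTorsion (maximalIdeal R) M) (n : ℕ)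
    [Module.Finite (R ⧸ maximalIdeal R) (LocCoh.torsionBy (maximalIdeal R) M)]
    (hn : Module.finrank (R ⧸ maximalIdeal R) (LocCoh.torsionBy (maximalIdeal R) M) = n) :
    ∃ g : M →ₗ[R] (Fin n → E), Function.Injective g := by
  let : Field (R ⧸ maximalIdeal R) := Ideal.Quotient.field _
  let b := Module.finBasisOfFinrankEq (R ⧸ maximalIdeal R) (LocCoh.torsionBy (maximalIdeal R) M) hn
  let e : LocCoh.torsionBy (maximalIdeal R) M →ₗ[R] (Fin n → E) :=
    (LinearMap.pi fun i => f.comp (LinearMap.proj i)).comp (b.equivFun.restrictScalars R).toLinearMap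
  have he : Function.Injective e := by
    intro x y hxy
    apply b.equivFun.injective
    funext i
    exact hf.injective (congrFun hxy i)
  have hE : Module.Injective R E := hf.isInjective
  obtain ⟨g, hg⟩ := extend (inferInstance : Module.Injective R (Fin n → E))
    (LocCoh.torsionBy (maximalIdeal R) M).subtype (Submodule.injective_subtype _) e
  refine ⟨g, injective_of_socle hM g fun x hx hgx => ?_⟩
  have hxV : x ∈ LocCoh.torsionBy (maximalIdeal R) M :=
    (Submodule.mem_torsionBySet_iff _ _).mpr fun a => hx a a.2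
  have : e ⟨x, hxV⟩ = 0 := by rw [← hg]; exact hgx
  exact congrArg Subtype.val (he (this.trans (map_zero e).symm))

variable [IsNoetherianRing R]

theorem isPowerTorsion_hull (hf : _root_.InjHull.IsInjectiveHull f) :
    LocCoh.IsPowerTorsion (maximalIdeal R) E := by
  obtain ⟨C, hC⟩ := exists_isCompl_of_injective _ (injective_gam hf.isInjective (maximalIdeal R))
  have hsub : LinearMap.range f ≤ Gam (maximalIdeal R) E := fun x hx =>
    mem_gam.mpr ⟨1, by rw [pow_one]; exact (mem_range_iff hf).mp hx⟩
  have hC0 : C = ⊥ := by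
    by_contra hne
    exact hf.essential C hne (le_bot_iff.mp ((inf_le_inf_left C hsub).trans
      (le_of_eq (by rw [inf_comm]; exact hC.inf_eq_bot))))
  intro x
  have htop := hC.sup_eq_top
  rw [hC0, sup_bot_eq] at htop
  exact mem_gam.mp (htop ▸ Submodule.mem_top)

end PowerTorsion

section Completion

variable [IsNoetherianRing R] (hf : _root_.InjHull.IsInjectiveHull f)

local notation "C" => AdicCompletion (maximalIdeal R) R

include hf in
theorem exists_act (c : C) (x : E) : ∃ y : E, ∀ (n : ℕ) (r : R),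
    (∀ a ∈ maximalIdeal R ^ n, a • x = 0) →
      AdicCompletion.evalₐ (maximalIdeal R) n c = Ideal.Quotient.mk _ r → y = r • x := by
  obtain ⟨n₀, hn₀⟩ := isPowerTorsion_hull hf x
  obtain ⟨s, rfl⟩ := AdicCompletion.mk_surjective (maximalIdeal R) R c
  refine ⟨s.val n₀ • x, fun n r hn hr => ?_⟩
  rw [AdicCompletion.evalₐ_mk, Ideal.Quotient.eq] at hr
  rcases le_total n₀ n with h | h
  · have h1 := Ideal.Quotient.eq.mp (AdicCompletion.Ideal.mk_eq_mk (maximalIdeal R) h s)
    have e1 := hn₀ _ h1
    have e2 := hn _ hr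
    rw [sub_smul, sub_eq_zero] at e1 e2
    rw [← e1, e2]
  · have h1 := Ideal.Quotient.eq.mp (AdicCompletion.Ideal.mk_eq_mk (maximalIdeal R) h s)
    have e1 := hn _ h1
    have e2 := hn _ hr
    rw [sub_smul, sub_eq_zero] at e1 e2
    rw [e1, e2]

/-- The action of the completion on the hull. -/
noncomputable def act (c : C) (x : E) : E := (exists_act hf c x).choose

theorem act_eq {c : C} {x : E} (n : ℕ) (r : R) (hn : ∀ a ∈ maximalIdeal R ^ n, a • x = 0)
    (hr : AdicCompletion.evalₐ (maximalIdeal R) n c = Ideal.Quotient.mk _ r) :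
    act hf c x = r • x :=
  (exists_act hf c x).choose_spec n r hn hr

/-- `act c` as an endomorphism. -/
noncomputable def actEnd (c : C) : Module.End R E where
  toFun := act hf c
  map_add' x y := by
    obtain ⟨m, hm⟩ := isPowerTorsion_hull hf x
    obtain ⟨k, hk⟩ := isPowerTorsion_hull hf y
    obtain ⟨r, hr⟩ := Ideal.Quotient.mk_surjective (AdicCompletion.evalₐ (maximalIdeal R) (m + k) c)
    have hm' : ∀ a ∈ maximalIdeal R ^ (m + k), a • x = 0 := fun a ha =>
      hm a (Ideal.pow_le_pow_right (Nat.le_add_right m k) ha)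
    have hk' : ∀ a ∈ maximalIdeal R ^ (m + k), a • y = 0 := fun a ha =>
      hk a (Ideal.pow_le_pow_right (Nat.le_add_left k m) ha)
    rw [act_eq hf (m + k) r hm' hr.symm, act_eq hf (m + k) r hk' hr.symm,
      act_eq hf (m + k) r (fun a ha => by rw [smul_add, hm' a ha, hk' a ha, add_zero]) hr.symm,
      smul_add]
  map_smul' b x := by
    obtain ⟨m, hm⟩ := isPowerTorsion_hull hf x
    obtain ⟨r, hr⟩ := Ideal.Quotient.mk_surjective (AdicCompletion.evalₐ (maximalIdeal R) m c)
    rw [RingHom.id_apply, act_eq hf m r hm hr.symm,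
      act_eq hf m r (fun a ha => by rw [smul_comm, hm a ha, smul_zero]) hr.symm, smul_comm]

/-- The completion maps to the endomorphisms of the hull. -/
noncomputable def toEnd : C →ₐ[R] Module.End R E where
  toFun := actEnd hf
  map_one' := by
    ext x
    obtain ⟨m, hm⟩ := isPowerTorsion_hull hf x
    exact (act_eq hf m 1 hm (by rw [map_one, map_one])).trans (one_smul _ _)
  map_zero' := by
    ext x
    obtain ⟨m, hm⟩ := isPowerTorsion_hull hf x
    exact (act_eq hf m 0 hm (by rw [map_zero, map_zero])).trans (zero_smul _ _)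
  map_mul' c d := by
    ext x
    obtain ⟨m, hm⟩ := isPowerTorsion_hull hf x
    obtain ⟨r, hr⟩ := Ideal.Quotient.mk_surjective (AdicCompletion.evalₐ (maximalIdeal R) m c)
    obtain ⟨t, ht⟩ := Ideal.Quotient.mk_surjective (AdicCompletion.evalₐ (maximalIdeal R) m d)
    change act hf (c * d) x = act hf c (act hf d x)
    rw [act_eq hf m t hm ht.symm, act_eq hf m (r * t) hm (by rw [map_mul, map_mul, hr, ht]),
      act_eq hf m r (fun a ha => by rw [smul_comm, hm a ha, smul_zero]) hr.symm, mul_smul]
  map_add' c d := by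
    ext x
    obtain ⟨m, hm⟩ := isPowerTorsion_hull hf x
    obtain ⟨r, hr⟩ := Ideal.Quotient.mk_surjective (AdicCompletion.evalₐ (maximalIdeal R) m c)
    obtain ⟨t, ht⟩ := Ideal.Quotient.mk_surjective (AdicCompletion.evalₐ (maximalIdeal R) m d)
    change act hf (c + d) x = act hf c x + act hf d x
    rw [act_eq hf m (r + t) hm (by rw [map_add, map_add, hr, ht]), act_eq hf m r hm hr.symm,
      act_eq hf m t hm ht.symm, add_smul]
  commutes' b := by
    ext x
    obtain ⟨m, hm⟩ := isPowerTorsion_hull hf x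
    change act hf (algebraMap R C b) x = algebraMap R (Module.End R E) b x
    rw [act_eq hf m b hm (by rw [AlgHom.commutes, Ideal.Quotient.algebraMap_eq]),
      Module.algebraMap_end_apply]

theorem isFiniteLength_quotient_pow (n : ℕ) : IsFiniteLength R (R ⧸ maximalIdeal R ^ n) := by
  rcases Nat.eq_zero_or_pos n with rfl | hn
  · have : Subsingleton (R ⧸ maximalIdeal R ^ 0) :=
      Ideal.Quotient.subsingleton_iff.mpr (by rw [pow_zero, Ideal.one_eq_top])
    exact IsFiniteLength.of_subsingleton
  have hle : maximalIdeal R ^ n ≤ maximalIdeal R := Ideal.pow_le_self (Nat.pos_iff_ne_zero.mp hn)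
  have hmin : maximalIdeal R ∈ (maximalIdeal R ^ n).minimalPrimes :=
    ⟨⟨inferInstance, hle⟩, fun q hq _ => Ideal.IsPrime.le_of_pow_le (hP := hq.1) hq.2⟩
  have := IsLocalRing.quotient_artinian_of_mem_minimalPrimes_of_isLocalRing _ hmin
  refine isFiniteLength_iff_isNoetherian_isArtinian.mpr ⟨inferInstance, ?_⟩
  exact isArtinian_of_surjective_algebraMap (R := R ⧸ maximalIdeal R ^ n) Ideal.Quotient.mk_surjective

include hf in
theorem mem_pow_of_kills {n : ℕ} {r : R}
    (h : ∀ x : E, (∀ a ∈ maximalIdeal R ^ n, a • x = 0) → r • x = 0) :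
    r ∈ maximalIdeal R ^ n := by
  rw [← Ideal.Quotient.eq_zero_iff_mem]
  by_contra h0
  obtain ⟨φ, hφ⟩ := exists_apply_ne_zero hf h0
  apply hφ
  have e : ∀ a : R, φ (Ideal.Quotient.mk _ a) = a • φ 1 := fun a => by
    rw [← map_smul, Algebra.smul_def, mul_one]; rfl
  rw [e]
  refine h _ fun a ha => ?_
  rw [← e, Ideal.Quotient.eq_zero_iff_mem.mpr ha, map_zero]

theorem toEnd_bijective : Function.Bijective (toEnd hf) := by
  constructor
  · refine (injective_iff_map_eq_zero _).mpr fun c hc => ?_
    refine AdicCompletion.ext_evalₐ fun n => ?_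
    obtain ⟨r, hr⟩ := Ideal.Quotient.mk_surjective (AdicCompletion.evalₐ (maximalIdeal R) n c)
    rw [map_zero, ← hr, Ideal.Quotient.eq_zero_iff_mem]
    refine mem_pow_of_kills hf fun x hx => ?_
    rw [← act_eq hf n r hx hr.symm]
    exact LinearMap.congr_fun hc x
  · intro φ
    have hkey : ∀ n : ℕ, ∃ r : R, ∀ x : E, (∀ a ∈ maximalIdeal R ^ n, a • x = 0) → φ x = r • x := by
      intro n
      let θ : ((R ⧸ maximalIdeal R ^ n) →ₗ[R] E) →ₗ[R] E := φ.comp (LinearMap.applyₗ 1)
      obtain ⟨z, hz⟩ := (applyₗ_bijective hf (isFiniteLength_quotient_pow n)).2 θ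
      obtain ⟨r, rfl⟩ := Ideal.Quotient.mk_surjective z
      refine ⟨r, fun x hx => ?_⟩
      let ψ : (R ⧸ maximalIdeal R ^ n) →ₗ[R] E :=
        Submodule.liftQ _ (LinearMap.toSpanSingleton R E x) fun a ha => by simpa using hx a ha
      have := LinearMap.congr_fun hz ψ
      change ψ (Ideal.Quotient.mk _ r) = φ (ψ (Ideal.Quotient.mk _ 1)) at this
      change r • x = φ ((1 : R) • x) at this
      rw [one_smul] at this
      exact this.symm
    choose s hs using hkey
    have hcauchy : AdicCompletion.IsAdicCauchy (maximalIdeal R) R s := by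
      intro m n hmn
      rw [SModEq.sub_mem, smul_eq_mul, Ideal.mul_top]
      refine mem_pow_of_kills hf fun x hx => ?_
      rw [sub_smul, ← hs m x hx, ← hs n x fun a ha => hx a (Ideal.pow_le_pow_right hmn ha), sub_self]
    refine ⟨AdicCompletion.mk _ _ ⟨s, hcauchy⟩, LinearMap.ext fun x => ?_⟩
    obtain ⟨n, hn⟩ := isPowerTorsion_hull hf x
    exact (act_eq hf n (s n) hn (AdicCompletion.evalₐ_mk _ n _)).trans (hs n x hn).symm

include hf in
theorem isArtinian_hull : IsArtinian R E := by
  have : IsNoetherianRing C :=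
    RegLoc.AdicNoeth.isNoetherianRing_adicCompletion _ (IsNoetherian.noetherian _)
  let e : C ≃ₐ[R] Module.End R E := AlgEquiv.ofBijective _ (toEnd_bijective hf)
  let ann : Submodule R E → Ideal C := fun N =>
    { carrier := {c | ∀ x ∈ N, e c x = 0}
      add_mem' := fun {a b} ha hb x hx => by rw [map_add, LinearMap.add_apply, ha x hx, hb x hx, add_zero]
      zero_mem' := fun x _ => by rw [map_zero]; rfl
      smul_mem' := fun a b hb x hx => by
        rw [smul_eq_mul, map_mul, Module.End.mul_apply, hb x hx, map_zero] }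
  have hanti : StrictAnti ann := by
    intro N N' hlt
    refine lt_of_le_of_ne (fun c hc x hx => hc x (hlt.le hx)) fun heq => ?_
    obtain ⟨x, hxN', hxN⟩ := SetLike.exists_of_lt hlt
    obtain ⟨φ, hφ⟩ := exists_apply_ne_zero hf (x := Submodule.Quotient.mk (p := N) x)
      (by rwa [ne_eq, Submodule.Quotient.mk_eq_zero])
    obtain ⟨c, hc⟩ := e.surjective (φ.comp N.mkQ)
    have : c ∈ ann N := fun y hy => by
      rw [hc, LinearMap.comp_apply, Submodule.mkQ_apply, (Submodule.Quotient.mk_eq_zero N).mpr hy,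
        map_zero]
    rw [← heq] at this
    exact hφ (by simpa [hc] using this x hxN')
  exact ⟨Subrelation.wf (fun h => hanti h) (InvImage.wf ann (wellFounded_gt (α := Ideal C)))⟩

end Completion

section Artinian

variable [IsNoetherianRing R]

theorem isPowerTorsion_of_isArtinian (M : Type u) [AddCommGroup M] [Module R M] [IsArtinian R M] :
    LocCoh.IsPowerTorsion (maximalIdeal R) M := by
  intro x
  let N : ℕ → Submodule R M := fun n => maximalIdeal R ^ n • Submodule.span R {x}
  obtain ⟨n, hn⟩ := IsArtinian.monotone_stabilizes (R := R) (M := M)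
    ⟨fun n => OrderDual.toDual (N n), fun a b hab =>
      Submodule.smul_mono (Ideal.pow_le_pow_right hab) le_rfl⟩
  have h1 : N n ≤ maximalIdeal R • N n := by
    have := congrArg OrderDual.ofDual (hn (n + 1) n.le_succ)
    change maximalIdeal R ^ n • Submodule.span R {x} = maximalIdeal R ^ (n + 1) • Submodule.span R {x} at this
    simp only [N]
    exact this.le.trans (le_of_eq (by rw [pow_succ', ← smul_eq_mul, Submodule.smul_assoc]))
  have hfg : (N n).FG := Submodule.FG.smul (IsNoetherian.noetherian _) (Submodule.fg_span_singleton x)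
  have h0 : N n = ⊥ := Submodule.eq_bot_of_le_smul_of_le_jacobson_bot (maximalIdeal R) (N n) hfg h1
    (maximalIdeal_le_jacobson _)
  refine ⟨n, fun a ha => ?_⟩
  have : a • x ∈ N n := Submodule.smul_mem_smul ha (Submodule.mem_span_singleton_self x)
  rwa [h0, Submodule.mem_bot] at this

theorem isArtinian_iff (M : Type u) [AddCommGroup M] [Module R M] :
    IsArtinian R M ↔ LocCoh.IsPowerTorsion (maximalIdeal R) M ∧
      Module.Finite (R ⧸ maximalIdeal R) (LocCoh.torsionBy (maximalIdeal R) M) := by
  constructor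
  · intro h
    refine ⟨isPowerTorsion_of_isArtinian M, ?_⟩
    let : Field (R ⧸ maximalIdeal R) := Ideal.Quotient.field _
    have : IsArtinian (R ⧸ maximalIdeal R) (LocCoh.torsionBy (maximalIdeal R) M) :=
      isArtinian_of_tower R inferInstance
    exact (IsSemisimpleModule.finite_tfae.out 2 0).mp this
  · rintro ⟨hpt, hfin⟩
    obtain ⟨E, _, _, f, hf⟩ := exists_isInjectiveHull R (ResidueField R)
    have := isArtinian_hull hf
    obtain ⟨g, hg⟩ := embeds_in_power hf hpt _ rfl
    exact isArtinian_of_injective g hg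

theorem isArtinian_dual (hf : _root_.InjHull.IsInjectiveHull f) (N : Type u) [AddCommGroup N]
    [Module R N] [Module.Finite R N] : IsArtinian R (N →ₗ[R] E) := by
  have := isArtinian_hull hf
  obtain ⟨n, s, hs⟩ := Module.Finite.exists_fin (R := R) (M := N)
  refine isArtinian_of_injective (LinearMap.pi fun i : Fin n => LinearMap.applyₗ (s i)) ?_
  intro a b h
  exact LinearMap.ext_on hs (by rintro _ ⟨i, rfl⟩; exact congrFun h i)

end Artinian

section Duality

/-- surjectivity of evaluation passes to submodules -/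
theorem surjective_applyₗ_of_injective (hf : _root_.InjHull.IsInjectiveHull f) {M P : Type u}
    [AddCommGroup M] [Module R M] [AddCommGroup P] [Module R P] (j : M →ₗ[R] P)
    (hj : Function.Injective j)
    (hP : Function.Surjective (LinearMap.applyₗ : P →ₗ[R] (P →ₗ[R] E) →ₗ[R] E)) :
    Function.Surjective (LinearMap.applyₗ : M →ₗ[R] (M →ₗ[R] E) →ₗ[R] E) := by
  intro θ
  obtain ⟨y, hy⟩ := hP (θ.comp (LinearMap.lcomp R E j))
  have hy' : ∀ ψ : P →ₗ[R] E, ψ y = θ (ψ.comp j) := fun ψ => LinearMap.congr_fun hy ψ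
  have hrange : y ∈ LinearMap.range j := by
    by_contra hn
    obtain ⟨φ, hφ⟩ := exists_apply_ne_zero hf (x := Submodule.Quotient.mk (p := LinearMap.range j) y)
      (by rwa [ne_eq, Submodule.Quotient.mk_eq_zero])
    apply hφ
    have := hy' (φ.comp (LinearMap.range j).mkQ)
    rw [LinearMap.comp_assoc, LinearMap.range_mkQ_comp, LinearMap.comp_zero, map_zero] at this
    exact this
  obtain ⟨x, rfl⟩ := hrange
  refine ⟨x, LinearMap.ext fun ψ => ?_⟩
  obtain ⟨l, hl⟩ := extend hf.isInjective j hj ψ
  rw [LinearMap.applyₗ_apply_apply, ← hl, LinearMap.comp_apply, hy' l]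

theorem surjective_applyₗ_of_surjective (hf : _root_.InjHull.IsInjectiveHull f) {M P : Type u}
    [AddCommGroup M] [Module R M] [AddCommGroup P] [Module R P] (q : P →ₗ[R] M)
    (hq : Function.Surjective q)
    (hP : Function.Surjective (LinearMap.applyₗ : P →ₗ[R] (P →ₗ[R] E) →ₗ[R] E)) :
    Function.Surjective (LinearMap.applyₗ : M →ₗ[R] (M →ₗ[R] E) →ₗ[R] E) := by
  intro θ
  obtain ⟨θ', hθ'⟩ := extend hf.isInjective (LinearMap.lcomp R E q)
    (fun a b h => LinearMap.ext fun m => by
      obtain ⟨p, rfl⟩ := hq m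
      exact LinearMap.congr_fun h p) θ
  obtain ⟨p, hp⟩ := hP θ'
  refine ⟨q p, LinearMap.ext fun ψ => ?_⟩
  rw [← hθ', LinearMap.comp_apply, ← hp]
  rfl

variable [IsNoetherianRing R]

theorem exists_smul_eq_of_complete (hf : _root_.InjHull.IsInjectiveHull f)
    [IsAdicComplete (maximalIdeal R) R] (φ : Module.End R E) : ∃ r : R, ∀ x, φ x = r • x := by
  obtain ⟨c, rfl⟩ := (toEnd_bijective hf).2 φ
  obtain ⟨r, rfl⟩ := AdicCompletion.of_surjective (maximalIdeal R) R c
  refine ⟨r, fun x => ?_⟩
  obtain ⟨n, hn⟩ := isPowerTorsion_hull hf x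
  exact act_eq hf n r hn (AdicCompletion.evalₐ_of _ n r)

theorem surjective_applyₗ_pi (hf : _root_.InjHull.IsInjectiveHull f)
    [IsAdicComplete (maximalIdeal R) R] (n : ℕ) :
    Function.Surjective (LinearMap.applyₗ : (Fin n → R) →ₗ[R] ((Fin n → R) →ₗ[R] E) →ₗ[R] E) := by
  classical
  intro θ
  choose r hr using fun i : Fin n => exists_smul_eq_of_complete hf
    (θ.comp ((LinearMap.lcomp R E (LinearMap.proj i)).comp (LinearMap.ringLmapEquivSelf R R E).symm.toLinearMap))
  refine ⟨r, LinearMap.ext fun ψ => ?_⟩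
  have hψ : ψ = ∑ i, (((LinearMap.ringLmapEquivSelf R R E).symm (ψ (Pi.single i 1))).comp
      (LinearMap.proj i)) := by
    refine (Pi.basisFun R (Fin n)).ext fun j => ?_
    simp [Pi.basisFun_apply, Pi.single_apply]
  rw [LinearMap.applyₗ_apply_apply]
  conv_rhs => rw [hψ, map_sum]
  conv_lhs => rw [hψ, LinearMap.sum_apply]
  refine Finset.sum_congr rfl fun i _ => ?_
  exact (by simp : _ = r i • ψ (Pi.single i 1)).trans (hr i _).symm

theorem surjective_applyₗ_hull_pi (hf : _root_.InjHull.IsInjectiveHull f)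
    [IsAdicComplete (maximalIdeal R) R] (n : ℕ) :
    Function.Surjective (LinearMap.applyₗ : (Fin n → E) →ₗ[R] ((Fin n → E) →ₗ[R] E) →ₗ[R] E) := by
  classical
  intro θ
  refine ⟨fun i => θ (LinearMap.proj i), LinearMap.ext fun ψ => ?_⟩
  choose r hr using fun i : Fin n =>
    exists_smul_eq_of_complete hf (ψ.comp (LinearMap.single R (fun _ => E) i))
  have hψ : ψ = ∑ i, r i • LinearMap.proj i := by
    refine LinearMap.pi_ext fun j y => ?_
    have := hr j y
    simp only [LinearMap.comp_apply, LinearMap.single_apply] at this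
    rw [this, LinearMap.sum_apply, Finset.sum_eq_single j] <;>
      simp +contextual
  rw [LinearMap.applyₗ_apply_apply]
  conv_rhs => rw [hψ, map_sum]
  conv_lhs => rw [hψ]
  simp

theorem finite_dual_artinian (hf : _root_.InjHull.IsInjectiveHull f)
    [IsAdicComplete (maximalIdeal R) R] (M : Type u) [AddCommGroup M] [Module R M]
    [IsArtinian R M] : Module.Finite R (M →ₗ[R] E) ∧
      Function.Bijective (LinearMap.applyₗ : M →ₗ[R] (M →ₗ[R] E) →ₗ[R] E) := by
  classical
  obtain ⟨hpt, hfin⟩ := (isArtinian_iff M).mp ‹IsArtinian R M›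
  obtain ⟨g, hg⟩ := embeds_in_power hf hpt _ rfl
  refine ⟨?_, applyₗ_injective hf M,
    surjective_applyₗ_of_injective hf g hg (surjective_applyₗ_hull_pi hf _)⟩
  refine Module.Finite.of_surjective
    (Fintype.linearCombination R fun i => (LinearMap.proj i).comp g) fun φ => ?_
  obtain ⟨l, hl⟩ := extend hf.isInjective g hg φ
  choose r hr using fun i => exists_smul_eq_of_complete hf (l.comp (LinearMap.single R (fun _ => E) i))
  refine ⟨r, LinearMap.ext fun m => ?_⟩
  rw [Fintype.linearCombination_apply, LinearMap.sum_apply, ← hl, LinearMap.comp_apply]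
  conv_rhs => rw [← Finset.univ_sum_single (g m), map_sum]
  refine Finset.sum_congr rfl fun i _ => ?_
  exact (hr i (g m i)).symm

theorem duality_finite (hf : _root_.InjHull.IsInjectiveHull f)
    [IsAdicComplete (maximalIdeal R) R] (M : Type u) [AddCommGroup M] [Module R M]
    [Module.Finite R M] : IsArtinian R (M →ₗ[R] E) ∧
      Function.Bijective (LinearMap.applyₗ : M →ₗ[R] (M →ₗ[R] E) →ₗ[R] E) := by
  obtain ⟨n, q, hq⟩ := Module.Finite.exists_fin' R M
  exact ⟨isArtinian_dual hf M, applyₗ_injective hf M,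
    surjective_applyₗ_of_surjective hf q hq (surjective_applyₗ_pi hf n)⟩

end Duality

end Groth.Agent.InjHull.Matlis
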