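import Groth.Agent.InjHull.Recognize
import Mathlib.RingTheory.LocalRing.Length
import Mathlib.RingTheory.LocalRing.Quotient
import Mathlib.LinearAlgebra.TensorProduct.Pi

/-!
# Base change of the injective hull of the residue field along flat local maps
-/

set_option autoImplicit false

universe u

open scoped TensorProduct

namespace Groth.Agent.InjHull.BaseChange

open IsLocalRing Groth.Agent.InjHull.Basic

variable {A : Type u} [CommRing A] {B : Type u} [CommRing B] [Algebra A B]
variable {E : Type u} [AddCommGroup E] [Module A E]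

theorem isPowerTorsion_baseChange {J : Ideal A} (hE : LocCoh.IsPowerTorsion J E) :
    LocCoh.IsPowerTorsion (J.map (algebraMap A B)) (B ⊗[A] E) := by
  intro z
  induction z using TensorProduct.induction_on with
  | zero => exact ⟨0, fun a _ => smul_zero a⟩
  | add x y hx hy =>
    obtain ⟨m, hm⟩ := hx
    obtain ⟨n, hn⟩ := hy
    exact ⟨m + n, fun a ha => by
      rw [smul_add, hm a (Ideal.pow_le_pow_right (Nat.le_add_right m n) ha),
        hn a (Ideal.pow_le_pow_right (Nat.le_add_left n m) ha), add_zero]⟩
  | tmul b x =>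
    obtain ⟨n, hn⟩ := hE x
    refine ⟨n, fun a ha => ?_⟩
    rw [← Ideal.map_pow] at ha
    refine Submodule.span_induction ?_ (zero_smul B _) (fun u v _ _ hu hv => ?_) (fun c u _ hu => ?_) ha
    · rintro _ ⟨c, hc, rfl⟩
      rw [algebraMap_smul, ← TensorProduct.tmul_smul, hn c hc, TensorProduct.tmul_zero]
    · rw [add_smul, hu, hv, add_zero]
    · rw [smul_eq_mul, mul_smul, hu, smul_zero]

theorem mem_torsionBy_map_iff {a : Ideal A} {M : Type u} [AddCommGroup M] [Module B M] {x : M} :
    x ∈ LocCoh.torsionBy (a.map (algebraMap A B)) M ↔ ∀ c ∈ a, algebraMap A B c • x = 0 := by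
  constructor
  · exact fun h c hc => (Submodule.mem_torsionBySet_iff _ _).mp h ⟨_, Ideal.mem_map_of_mem _ hc⟩
  · intro h
    refine (Submodule.mem_torsionBySet_iff _ _).mpr fun d => ?_
    refine Submodule.span_induction (p := fun u _ => u • x = 0) ?_ (zero_smul B x)
      (fun u v _ _ hu hv => by rw [add_smul, hu, hv, add_zero])
      (fun c u _ hu => by rw [smul_eq_mul, mul_smul, hu, smul_zero]) d.2
    rintro _ ⟨c, hc, rfl⟩
    exact h c hc

variable [Module.Flat A B]

theorem range_lTensor_torsionBy {a : Ideal A} (ha : a.FG) :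
    (LinearMap.range ((LocCoh.torsionBy a E).subtype.baseChange B) :
      Submodule B (B ⊗[A] E)) = LocCoh.torsionBy (a.map (algebraMap A B)) (B ⊗[A] E) := by
  classical
  obtain ⟨k, s, hs⟩ := Submodule.fg_iff_exists_fin_generating_family.mp ha
  let φ : E →ₗ[A] (Fin k → E) := LinearMap.pi fun i => s i • LinearMap.id
  have hker : LinearMap.ker φ = LocCoh.torsionBy a E := by
    ext x
    rw [Submodule.mem_torsionBySet_iff, LinearMap.mem_ker]
    constructor
    · intro h c
      have hle : a ≤ LinearMap.ker (LinearMap.toSpanSingleton A E x) := by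
        rw [← hs, Submodule.span_le]
        rintro _ ⟨i, rfl⟩
        simpa [φ] using congrFun h i
      simpa using hle c.2
    · intro h
      funext i
      exact h ⟨s i, hs ▸ Submodule.subset_span ⟨i, rfl⟩⟩
  have hex : Function.Exact ((LocCoh.torsionBy a E).subtype.lTensor B) (φ.lTensor B) :=
    Module.Flat.lTensor_exact B (LinearMap.exact_iff.mpr (by rw [hker, Submodule.range_subtype]))
  have hpi : ∀ (z : B ⊗[A] E) (i : Fin k),
      TensorProduct.piRight A A B (fun _ : Fin k => E) (φ.lTensor B z) i =
        algebraMap A B (s i) • z := by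
    intro z i
    induction z using TensorProduct.induction_on with
    | zero => simp
    | add x y hx hy => rw [map_add, map_add, Pi.add_apply, hx, hy, smul_add]
    | tmul b x => simp [φ, algebraMap_smul, TensorProduct.tmul_smul]
  ext z
  rw [LinearMap.mem_range, mem_torsionBy_map_iff]
  constructor
  · rintro ⟨w, rfl⟩ c hc
    rw [← map_smul]
    have hw : algebraMap A B c • w = 0 := by
      induction w using TensorProduct.induction_on with
      | zero => exact smul_zero _
      | add x y hx hy => rw [smul_add, hx, hy, add_zero]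
      | tmul b x =>
        rw [algebraMap_smul, ← TensorProduct.tmul_smul,
          show c • x = 0 from Subtype.ext ((Submodule.mem_torsionBySet_iff _ _).mp x.2 ⟨c, hc⟩),
          TensorProduct.tmul_zero]
    rw [hw, map_zero]
  · intro h
    have h0 : φ.lTensor B z = 0 := by
      apply (TensorProduct.piRight A A B (fun _ : Fin k => E)).injective
      funext i
      rw [hpi, h _ (hs ▸ Submodule.subset_span ⟨i, rfl⟩), map_zero, Pi.zero_apply]
    obtain ⟨w, hw⟩ := (hex z).mp h0
    exact ⟨w, hw⟩

/-- torsion of a base change is base change of torsion -/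
noncomputable def torsionEquiv {a : Ideal A} (ha : a.FG) :
    (B ⊗[A] LocCoh.torsionBy a E) ≃ₗ[B] LocCoh.torsionBy (a.map (algebraMap A B)) (B ⊗[A] E) :=
  (LinearEquiv.ofInjective ((LocCoh.torsionBy a E).subtype.baseChange B)
    (Module.Flat.lTensor_preserves_injective_linearMap _ (Submodule.injective_subtype _))).trans
    (LinearEquiv.ofEq _ _ (range_lTensor_torsionBy ha))

variable [IsLocalRing A] [IsNoetherianRing A] [IsLocalRing B] [IsNoetherianRing B]
  [IsLocalHom (algebraMap A B)]

theorem exists_hull_baseChange {f : ResidueField A →ₗ[A] E} (hf : _root_.InjHull.IsInjectiveHull f)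
    (hfin : IsFiniteLength B (B ⧸ (maximalIdeal A).map (algebraMap A B)))
    (hsoc : Module.length B (LocCoh.torsionBy (maximalIdeal B)
      (B ⧸ (maximalIdeal A).map (algebraMap A B))) = 1) :
    ∃ g : ResidueField B →ₗ[B] B ⊗[A] E, _root_.InjHull.IsInjectiveHull g := by
  set J := (maximalIdeal A).map (algebraMap A B) with hJ
  have hJle : J ≤ maximalIdeal B := ((local_hom_TFAE (algebraMap A B)).out 0 2).mp ‹IsLocalHom (algebraMap A B)›
  have hpow : ∀ n : ℕ, ∃ N : ℕ, maximalIdeal B ^ N ≤ J ^ n := by
    have : IsArtinian B (B ⧸ J) := (isFiniteLength_iff_isNoetherian_isArtinian.mp hfin).2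
    have : IsArtinianRing (B ⧸ J) := isArtinian_of_tower B this
    obtain ⟨N, hN⟩ := IsLocalRing.exists_maximalIdeal_pow_le_of_isArtinianRing_quotient J
    intro n
    exact ⟨N * n, by rw [pow_mul]; exact Ideal.pow_right_mono hN n⟩
  have hpt : LocCoh.IsPowerTorsion (maximalIdeal B) (B ⊗[A] E) := fun z => by
    obtain ⟨n, hn⟩ := isPowerTorsion_baseChange (B := B) (Matlis.isPowerTorsion_hull hf) z
    obtain ⟨N, hN⟩ := hpow n
    exact ⟨N, fun a ha => hn a (hN ha)⟩
  have hmfg : (maximalIdeal A).FG := IsNoetherian.noetherian _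
  -- socle
  let eK : LocCoh.torsionBy (maximalIdeal A) E ≃ₗ[A] A ⧸ maximalIdeal A :=
    (Recognize.homQuotientEquiv (maximalIdeal A) E).symm.trans
      ((Matlis.dual_residueField hf).some)
  let eJ : LocCoh.torsionBy J (B ⊗[A] E) ≃ₗ[B] B ⧸ J :=
    (torsionEquiv hmfg).symm.trans ((eK.baseChange A B _ _).trans
      (Algebra.TensorProduct.quotIdealMapEquivTensorQuot B (maximalIdeal A)).toLinearEquiv.symm)
  have hsoc' : Module.length B (LocCoh.torsionBy (maximalIdeal B) (B ⊗[A] E)) = 1 := by
    rw [← hsoc]
    let ι : LocCoh.torsionBy (maximalIdeal B) (B ⊗[A] E) →ₗ[B] LocCoh.torsionBy J (B ⊗[A] E) :=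
      Submodule.inclusion (Submodule.torsionBySet_le_torsionBySet_of_subset hJle)
    let Φ : LocCoh.torsionBy (maximalIdeal B) (B ⊗[A] E) →ₗ[B]
        LocCoh.torsionBy (maximalIdeal B) (B ⧸ J) :=
      (eJ.toLinearMap.comp ι).codRestrict _ fun x => (Submodule.mem_torsionBySet_iff _ _).mpr
        fun b => by
          rw [← map_smul, show (b : B) • x = 0 from
            Subtype.ext ((Submodule.mem_torsionBySet_iff _ _).mp x.2 b), map_zero]
    refine (LinearEquiv.ofBijective Φ ⟨fun x y h => ?_, fun w => ?_⟩).length_eq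
    · exact Submodule.inclusion_injective _ (eJ.injective (congrArg Subtype.val h))
    · have hw : ∀ b : maximalIdeal B, (b : B) • eJ.symm (w : B ⧸ J) = 0 := fun b => by
        rw [← map_smul, (Submodule.mem_torsionBySet_iff _ _).mp w.2 b, map_zero]
      refine ⟨⟨(eJ.symm (w : B ⧸ J) : B ⊗[A] E), (Submodule.mem_torsionBySet_iff _ _).mpr fun b =>
        congrArg Subtype.val (hw b)⟩, Subtype.ext ?_⟩
      exact eJ.apply_symm_apply _
  refine Recognize.exists_hull_of_lengths hpt hsoc' (fun n => J ^ n) hpow
    (fun N => ⟨N, Ideal.pow_right_mono hJle N⟩) fun n => ?_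
  rw [hJ, ← Ideal.map_pow, ← (torsionEquiv (Submodule.FG.pow hmfg n)).length_eq,
    (Algebra.TensorProduct.quotIdealMapEquivTensorQuot B (maximalIdeal A ^ n)).toLinearEquiv.length_eq,
    IsLocalRing.length_baseChange A B, IsLocalRing.length_baseChange A B]
  congr 1
  rw [← (Recognize.homQuotientEquiv _ E).length_eq,
    Matlis.length_dual hf (Matlis.isFiniteLength_quotient_pow n)]

/-- The unramified case. -/
theorem exists_hull_baseChange_unramified {f : ResidueField A →ₗ[A] E}
    (hf : _root_.InjHull.IsInjectiveHull f)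
    (hm : (maximalIdeal A).map (algebraMap A B) = maximalIdeal B) :
    ∃ g : ResidueField B →ₗ[B] B ⊗[A] E, _root_.InjHull.IsInjectiveHull g := by
  have hs : IsSimpleModule B (B ⧸ maximalIdeal B) :=
    isSimpleModule_iff_quot_maximal.mpr ⟨_, inferInstance, ⟨LinearEquiv.refl _ _⟩⟩
  have h1 : Module.length B (B ⧸ maximalIdeal B) = 1 := Module.length_eq_one B _
  refine exists_hull_baseChange hf ?_ ?_
  · rw [hm]; exact Module.length_ne_top_iff.mp (by rw [h1]; simp)
  · rw [hm]
    have htop : LocCoh.torsionBy (maximalIdeal B) (B ⧸ maximalIdeal B) = ⊤ := by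
      rw [eq_top_iff]
      exact fun x _ => (Submodule.mem_torsionBySet_iff _ _).mpr fun b =>
        (Prime.smul_eq_zero_of_prime (maximalIdeal B)).mpr (Or.inl b.2)
    rw [htop, Module.length_top, h1]

end Groth.Agent.InjHull.BaseChange
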