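import Groth.Agent.InjHull.Matlis
import Mathlib.Algebra.Category.ModuleCat.ChangeOfRings

/-!
# Coextension of scalars of injective hulls
-/

set_option autoImplicit false

universe u

open CategoryTheory

namespace Groth.Agent.InjHull.Coextend

open IsLocalRing Groth.Agent.InjHull.Basic Groth.Agent.InjHull.Noetherian

variable (A : Type u) [CommRing A] (B : Type u) [CommRing B] [Algebra A B]
variable (E : Type u) [AddCommGroup E] [Module A E]

/-- The carrier of `Hom_A(B, E)`. -/
abbrev Co : Type u := (ModuleCat.coextendScalars (algebraMap A B)).obj (ModuleCat.of A E)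

theorem injective_co (hE : Module.Injective A E) : Module.Injective B (Co A B E) := by
  have : Injective (ModuleCat.of A E) := Module.injective_object_of_injective_module (inj := hE) A E
  have := Injective.injective_of_adjoint
    (ModuleCat.restrictCoextendScalarsAdj.{u} (algebraMap A B)) (ModuleCat.of A E)
  exact Module.injective_module_of_injective_object (inj := this) B _

variable {A B E}

/-- evaluation -/
noncomputable def ap (g : Co A B E) : B →ₗ[A] E where
  toFun b := (ModuleCat.CoextendScalars.equiv (algebraMap A B) (ModuleCat.of A E) g) b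
  map_add' x y := map_add (ModuleCat.CoextendScalars.equiv (algebraMap A B) (ModuleCat.of A E) g) x y
  map_smul' c x := by
    refine Eq.trans (congrArg _ (Algebra.smul_def c x)) ?_
    exact (ModuleCat.CoextendScalars.equiv (algebraMap A B) (ModuleCat.of A E) g).map_smul c x

theorem ap_smul (b : B) (g : Co A B E) (t : B) : ap (b • g) t = ap g (t * b) := by
  change (ModuleCat.CoextendScalars.equiv (algebraMap A B) (ModuleCat.of A E) (b • g)) t = _
  rw [map_smul]
  rfl

theorem ext_ap {g h : Co A B E} (H : ∀ t, ap g t = ap h t) : g = h :=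
  (ModuleCat.CoextendScalars.equiv (algebraMap A B) (ModuleCat.of A E)).injective (LinearMap.ext H)

theorem ap_zero (t : B) : ap (0 : Co A B E) t = 0 := by
  change (ModuleCat.CoextendScalars.equiv (algebraMap A B) (ModuleCat.of A E) 0) t = _
  rw [map_zero]
  rfl

/-- constructor -/
noncomputable def mk (ψ : B →ₗ[A] E) : Co A B E :=
  (ModuleCat.CoextendScalars.equiv (algebraMap A B) (ModuleCat.of A E)).symm
    { toFun := fun b => ψ b
      map_add' := fun x y => map_add ψ x y
      map_smul' := fun c x => (congrArg ψ (Algebra.smul_def c (show B from x)).symm).trans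
        (ψ.map_smul c x) }

theorem ap_mk (ψ : B →ₗ[A] E) (t : B) : ap (mk ψ) t = ψ t := by
  change (ModuleCat.CoextendScalars.equiv (algebraMap A B) (ModuleCat.of A E) (mk ψ)) t = _
  rw [mk, LinearEquiv.apply_symm_apply]
  rfl

/-- If the dual of `k_B` has the same finite `A`-length as `k_B`, then the `m_B`-power torsion of
`Hom_A(B, E)` is an injective hull of `k_B`. -/
theorem exists_hull_gam [IsLocalRing B] [IsNoetherianRing B] (hE : Module.Injective A E)
    (hfin : IsFiniteLength A (ResidueField B))
    (hlen : Module.length A (ResidueField B →ₗ[A] E) = Module.length A (ResidueField B)) :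
    ∃ g : ResidueField B →ₗ[B] Gam (maximalIdeal B) (Co A B E),
      _root_.InjHull.IsInjectiveHull g := by
  have : Nontrivial (ResidueField B →ₗ[A] E) := by
    rw [← Module.length_pos_iff (R := A), hlen]
    exact Module.length_pos
  obtain ⟨l, hl⟩ := exists_ne (0 : ResidueField B →ₗ[A] E)
  let π : B →ₗ[A] ResidueField B := (IsScalarTower.toAlgHom A B (ResidueField B)).toLinearMap
  have hπ : Function.Surjective π := residue_surjective
  let T : ResidueField B →ₗ[A] (ResidueField B →ₗ[A] E) :=
    { toFun := fun c => l.comp (LinearMap.mulRight A c)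
      map_add' := fun a b => by ext x; simp [mul_add]
      map_smul' := fun a b => by ext x; simp }
  have hTinj : Function.Injective T := by
    rw [← LinearMap.ker_eq_bot, Submodule.eq_bot_iff]
    intro c hc
    by_contra hc0
    refine hl (LinearMap.ext fun x => ?_)
    have := LinearMap.congr_fun (LinearMap.mem_ker.mp hc) (x * c⁻¹)
    change l (x * c⁻¹ * c) = 0 at this
    rwa [inv_mul_cancel_right₀ hc0] at this
  have hTsurj : Function.Surjective T := by
    have h3 := Module.length_eq_add_of_exact T (LinearMap.range T).mkQ hTinj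
      (Submodule.mkQ_surjective _) (LinearMap.exact_map_mkQ_range T)
    rw [hlen] at h3
    have h4 := (WithTop.add_left_cancel (Module.length_ne_top_iff.mpr hfin)
      ((add_zero _).trans h3)).symm
    exact LinearMap.range_eq_top.mp
      (Submodule.Quotient.subsingleton_iff.mp (Module.length_eq_zero_iff.mp h4))
  let g₀ : Co A B E := mk (l.comp π)
  have hg₀m : ∀ a ∈ maximalIdeal B, a • g₀ = 0 := fun a ha => ext_ap fun t => by
    rw [ap_smul, ap_mk, ap_zero, LinearMap.comp_apply]
    have : π (t * a) = 0 := (residue_eq_zero_iff _).mpr (Ideal.mul_mem_left _ t ha)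
    rw [this, map_zero]
  have hg₀ : g₀ ∈ Gam (maximalIdeal B) (Co A B E) :=
    mem_gam.mpr ⟨1, by rw [pow_one]; exact hg₀m⟩
  have hg₀0 : g₀ ≠ 0 := fun h => hl (LinearMap.ext fun x => by
    obtain ⟨b, rfl⟩ := hπ x
    have := congrArg (fun g => ap g b) h
    simp only [g₀, ap_mk, ap_zero, LinearMap.comp_apply] at this
    exact this)
  obtain ⟨g, hg, -⟩ := Prime.exists_hull_of_socle_elem (m := maximalIdeal B)
    (injective_gam (injective_co A B E hE) (maximalIdeal B)) (e := ⟨g₀, hg₀⟩)
    (fun h => hg₀0 (congrArg Subtype.val h))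
    (fun a ha => Subtype.ext (hg₀m a ha))
    (fun x hx => by
      obtain ⟨r, hr0, hr⟩ := Matlis.exists_smul_socle (isPowerTorsion_gam _ _) hx
      have hker : LinearMap.ker π ≤ LinearMap.ker (ap ((r • x : Gam (maximalIdeal B) (Co A B E)) :
          Co A B E)) := by
        intro b hb
        have hbm : b ∈ maximalIdeal B := (residue_eq_zero_iff _).mp hb
        have h0 := congrArg (fun z : Gam (maximalIdeal B) (Co A B E) => ap (z : Co A B E) 1) (hr b hbm)
        simp only [Submodule.coe_smul, ap_smul, one_mul, ZeroMemClass.coe_zero, ap_zero] at h0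
        simpa [ap_smul] using h0
      let ψ : ResidueField B →ₗ[A] E := (LinearMap.ker π).liftQ _ hker ∘ₗ
        (π.quotKerEquivOfSurjective hπ).symm.toLinearMap
      obtain ⟨c, hc⟩ := hTsurj ψ
      obtain ⟨b, rfl⟩ := hπ c
      refine ⟨r, b, Subtype.ext (ext_ap fun t => ?_), hr0⟩
      have e1 : (π.quotKerEquivOfSurjective hπ).symm (π t) = Submodule.Quotient.mk t :=
        (LinearEquiv.symm_apply_eq _).mpr rfl
      have e2 := LinearMap.congr_fun hc (π t)
      simp only [ψ, LinearMap.comp_apply, LinearEquiv.coe_coe, e1, Submodule.liftQ_apply] at e2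
      rw [← e2]
      change l (π t * π b) = ap (b • g₀) t
      rw [ap_smul, ap_mk, LinearMap.comp_apply]
      exact congrArg l (map_mul (residue B) t b).symm)
  exact ⟨g, hg⟩

end Groth.Agent.InjHull.Coextend
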