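import Groth.Agent.InjHull.Basic

/-!
# Injective modules over Noetherian rings
-/

set_option autoImplicit false

universe u

open DirectSum

namespace Groth.Agent.InjHull.Noetherian

open Groth.Agent.InjHull.Basic

variable {R : Type u} [CommRing R]

theorem injective_directSum [IsNoetherianRing R] {ι : Type u} (E : ι → Type u)
    [∀ i, AddCommGroup (E i)] [∀ i, Module R (E i)] (hE : ∀ i, Module.Injective R (E i)) :
    Module.Injective R (DirectSum ι E) := by
  classical
  apply Module.Baer.injective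
  intro I g
  obtain ⟨s, hs⟩ := (IsNoetherian.noetherian I)
  have hsI : ∀ x ∈ s, x ∈ I := fun x hx => hs ▸ Submodule.subset_span hx
  let T : Finset ι := s.attach.biUnion fun x => DFinsupp.support (g ⟨x, hsI x x.2⟩)
  have hT : ∀ i ∉ T, ∀ x : I, g x i = 0 := by
    intro i hi x
    have hmap : (DirectSum.component R ι E i).comp g = 0 := by
      have htop : Submodule.span R ((↑) ⁻¹' (s : Set R) : Set I) = ⊤ := by
        have := Submodule.span_span_coe_preimage (R := R) (s := (s : Set R))
        refine (Submodule.map_injective_of_injective I.injective_subtype) ?_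
        rw [Submodule.map_span, Submodule.map_top, Submodule.range_subtype]
        have hsub : (s : Set R) ⊆ Set.range (Subtype.val : I → R) :=
          fun y hy => ⟨⟨y, hsI y hy⟩, rfl⟩
        refine (congrArg (Submodule.span R) ?_).trans hs
        exact Set.image_preimage_eq_of_subset hsub
      refine LinearMap.ext_on htop fun y hy => ?_
      by_contra h0
      refine hi (Finset.mem_biUnion.mpr ⟨⟨y, hy⟩, Finset.mem_attach _ _, ?_⟩)
      exact DFinsupp.mem_support_iff.mpr h0
    exact LinearMap.congr_fun hmap x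
  choose l hl using fun i => (Module.Baer.of_injective (hE i)) I ((DirectSum.component R ι E i).comp g)
  refine ⟨∑ i ∈ T, (DirectSum.lof R ι E i).comp (l i), fun x hx => ?_⟩
  refine DFinsupp.ext fun i => ?_
  rw [LinearMap.sum_apply, DFinsupp.finsetSum_apply]
  by_cases hi : i ∈ T
  · rw [Finset.sum_eq_single i]
    · rw [LinearMap.comp_apply, DirectSum.lof_eq_of]
      exact (DirectSum.of_eq_same i _).trans (hl i x hx)
    · intro j _ hj
      rw [LinearMap.comp_apply, DirectSum.lof_eq_of]
      exact DirectSum.of_eq_of_ne _ _ _ (Ne.symm hj)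
    · exact fun h => absurd hi h
  · rw [hT i hi ⟨x, hx⟩]
    refine Finset.sum_eq_zero fun j hj => ?_
    rw [LinearMap.comp_apply, DirectSum.lof_eq_of]
    exact DirectSum.of_eq_of_ne _ _ _ (fun h : i = j => hi (h ▸ hj))

/-- `J`-power torsion submodule. -/
abbrev Gam (J : Ideal R) (I : Type u) [AddCommGroup I] [Module R I] : Submodule R I :=
  ⨆ n : ℕ, Submodule.torsionBySet R I ((J ^ n : Ideal R) : Set R)

theorem mem_gam {J : Ideal R} {I : Type u} [AddCommGroup I] [Module R I] {x : I} :
    x ∈ Gam J I ↔ ∃ n : ℕ, ∀ a ∈ J ^ n, a • x = 0 := by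
  have hmono : Monotone fun n : ℕ => Submodule.torsionBySet R I ((J ^ n : Ideal R) : Set R) :=
    fun m n h => Submodule.torsionBySet_le_torsionBySet_of_subset (Ideal.pow_le_pow_right h)
  rw [Submodule.mem_iSup_of_directed _ hmono.directed_le]
  simp [Submodule.mem_torsionBySet_iff]

theorem isPowerTorsion_gam (J : Ideal R) (I : Type u) [AddCommGroup I] [Module R I] :
    LocCoh.IsPowerTorsion J (Gam J I) := fun x => by
  obtain ⟨n, hn⟩ := mem_gam.mp x.2
  exact ⟨n, fun a ha => Subtype.ext (by simpa using hn a ha)⟩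

theorem exists_pow_smul_eq_zero [IsNoetherianRing R] {J : Ideal R} {H : Type u} [AddCommGroup H]
    [Module R H] (hH : LocCoh.IsPowerTorsion J H) {P : Type u} [AddCommGroup P] [Module R P]
    [Module.Finite R P] (g : P →ₗ[R] H) : ∃ n : ℕ, ∀ a ∈ J ^ n, ∀ x, a • g x = 0 := by
  classical
  obtain ⟨s, hs⟩ := Module.Finite.fg_top (R := R) (M := P)
  choose n hn using fun x : P => hH (g x)
  refine ⟨s.sup n, fun a ha x => ?_⟩
  have : (a • g : P →ₗ[R] H) = 0 := LinearMap.ext_on hs fun y hy =>
    hn y a (Ideal.pow_le_pow_right (Finset.le_sup hy) ha)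
  exact LinearMap.congr_fun this x

/-- A `J`-power torsion module is injective as soon as it has the extension property for finite
modules killed by a power of `J`. -/
theorem injective_of_powerTorsion_extend [IsNoetherianRing R] {J : Ideal R} {H : Type u}
    [AddCommGroup H] [Module R H] (hH : LocCoh.IsPowerTorsion J H)
    (hext : ∀ (M : Type u) [AddCommGroup M] [Module R M], Module.Finite R M →
      (∃ k : ℕ, (J ^ k) • (⊤ : Submodule R M) = ⊥) →
      ∀ (N : Submodule R M) (g : N →ₗ[R] H), ∃ g' : M →ₗ[R] H, g'.comp N.subtype = g) :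
    Module.Injective R H := by
  apply Module.Baer.injective
  intro a g
  obtain ⟨n, hn⟩ := exists_pow_smul_eq_zero hH g
  obtain ⟨k, hk⟩ := J.exists_pow_inf_eq_pow_smul a
  let q : R →ₗ[R] R ⧸ J ^ (n + k) := (J ^ (n + k)).mkQ
  let p : a →ₗ[R] (Submodule.map q a) := q.restrict fun x hx => Submodule.mem_map_of_mem hx
  have hp : Function.Surjective p := by
    rintro ⟨_, x, hx, rfl⟩
    exact ⟨⟨x, hx⟩, rfl⟩
  have hker : LinearMap.ker p ≤ LinearMap.ker g := by
    intro x hx
    have hxJ : (x : R) ∈ J ^ (n + k) :=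
      (Submodule.Quotient.mk_eq_zero (J ^ (n + k))).mp (congrArg Subtype.val hx)
    have hmem : (x : R) ∈ J ^ (n + k) • (⊤ : Submodule R R) ⊓ a :=
      ⟨by simpa using hxJ, x.2⟩
    rw [hk (n + k) (Nat.le_add_left k n), Nat.add_sub_cancel] at hmem
    have hmem' : (x : R) ∈ (J ^ n • (⊤ : Submodule R a)).map a.subtype := by
      rw [Submodule.map_smul'', Submodule.map_top, Submodule.range_subtype]
      exact Submodule.smul_mono le_rfl inf_le_right hmem
    obtain ⟨y, hy, hyx⟩ := Submodule.mem_map.mp hmem'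
    obtain rfl : y = x := Subtype.ext hyx
    rw [LinearMap.mem_ker]
    refine Submodule.smul_induction_on hy (fun c hc z _ => ?_) (fun u v hu hv => ?_)
    · rw [map_smul, hn c hc]
    · rw [map_add, hu, hv, add_zero]
  let g₁ : (Submodule.map q a) →ₗ[R] H :=
    ((LinearMap.ker p).liftQ g hker).comp (p.quotKerEquivOfSurjective hp).symm.toLinearMap
  have hg₁ : ∀ x : a, g₁ (p x) = g x := by
    intro x
    have : (p.quotKerEquivOfSurjective hp).symm (p x) = Submodule.Quotient.mk x :=
      (LinearEquiv.symm_apply_eq _).mpr rfl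
    simp [g₁, this]
  obtain ⟨g', hg'⟩ := hext (R ⧸ J ^ (n + k)) inferInstance ⟨n + k, by
      refine eq_bot_iff.mpr (Submodule.smul_le.mpr fun c hc z _ => ?_)
      obtain ⟨w, rfl⟩ := Submodule.Quotient.mk_surjective _ z
      rw [Submodule.mem_bot, ← Submodule.Quotient.mk_smul, Submodule.Quotient.mk_eq_zero,
        smul_eq_mul]
      exact Ideal.mul_mem_right w _ hc⟩
    ((Submodule.map q a)) g₁
  refine ⟨g'.comp q, fun x hx => ?_⟩
  rw [← hg₁ ⟨x, hx⟩, ← hg']
  rfl

theorem injective_gam [IsNoetherianRing R] {I : Type u} [AddCommGroup I] [Module R I]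
    (hI : Module.Injective R I) (J : Ideal R) : Module.Injective R (Gam J I) := by
  refine injective_of_powerTorsion_extend (isPowerTorsion_gam J I)
    fun M _ _ _ ⟨k, hk⟩ N g => ?_
  obtain ⟨l, hl⟩ := extend hI N.subtype N.injective_subtype ((Gam J I).subtype.comp g)
  refine ⟨l.codRestrict _ (fun m => mem_gam.mpr ⟨k, fun a ha => ?_⟩), LinearMap.ext fun x =>
    Subtype.ext (LinearMap.congr_fun hl x)⟩
  have : a • m = 0 := by
    have h := Submodule.smul_mem_smul (N := (⊤ : Submodule R M)) ha (Submodule.mem_top (x := m))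
    rw [hk] at h
    exact h
  rw [← map_smul, this, map_zero]

theorem mkLinearMap_powers_surjective [IsNoetherianRing R] {I : Type u} [AddCommGroup I]
    [Module R I] (hI : Module.Injective R I) (f : R) :
    Function.Surjective (LocalizedModule.mkLinearMap (Submonoid.powers f) I) := by
  intro z
  induction z using LocalizedModule.induction_on with
  | h x s =>
    obtain ⟨_, n, rfl⟩ := s
    let A : ℕ →o Ideal R := ⟨fun k => LinearMap.ker (LinearMap.mulLeft R (f ^ k)), fun j k hjk r hr => by
      rw [LinearMap.mem_ker, LinearMap.mulLeft_apply] at hr ⊢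
      obtain ⟨d, rfl⟩ := Nat.exists_eq_add_of_le hjk
      rw [pow_add, mul_comm (f ^ j), mul_assoc, hr, mul_zero]⟩
    obtain ⟨m, hm⟩ := monotone_stabilizes_iff_noetherian.mpr inferInstance A
    have hm' : ∀ r : R, f ^ (n + m) * r = 0 → f ^ m * r = 0 := fun r hr => by
      have : r ∈ A m := (hm (n + m) (Nat.le_add_left m n)).symm ▸ LinearMap.mem_ker.mpr hr
      exact LinearMap.mem_ker.mp this
    let μ : R →ₗ[R] R := LinearMap.mulLeft R (f ^ (n + m))
    have hker : LinearMap.ker μ ≤ LinearMap.ker (LinearMap.toSpanSingleton R I (f ^ m • x)) := by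
      intro r hr
      rw [LinearMap.mem_ker, LinearMap.toSpanSingleton_apply, smul_smul, mul_comm,
        hm' r (LinearMap.mem_ker.mp hr), zero_smul]
    let g : LinearMap.range μ →ₗ[R] I :=
      ((LinearMap.ker μ).liftQ _ hker).comp μ.quotKerEquivRange.symm.toLinearMap
    obtain ⟨l, hl⟩ := extend hI (LinearMap.range μ).subtype (Submodule.injective_subtype _) g
    have h1 : l (f ^ (n + m)) = f ^ m • x := by
      have e1 : μ.quotKerEquivRange.symm ⟨μ 1, ⟨1, rfl⟩⟩ = Submodule.Quotient.mk 1 :=
        (LinearEquiv.symm_apply_eq _).mpr rfl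
      have e2 : g ⟨μ 1, ⟨1, rfl⟩⟩ = f ^ m • x := by
        rw [LinearMap.comp_apply, LinearEquiv.coe_coe, e1]
        exact (LinearMap.toSpanSingleton_apply R I (f ^ m • x) 1).trans (one_smul _ _)
      have := LinearMap.congr_fun hl ⟨μ 1, ⟨1, rfl⟩⟩
      rw [e2, LinearMap.comp_apply, Submodule.subtype_apply] at this
      simpa [μ] using this
    refine ⟨l 1, ?_⟩
    rw [LocalizedModule.mkLinearMap_apply, LocalizedModule.mk_eq]
    refine ⟨⟨f ^ m, m, rfl⟩, ?_⟩
    have h2 : f ^ (n + m) • l 1 = f ^ m • x := by rw [← map_smul, smul_eq_mul, mul_one, h1]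
    simp only [Submonoid.smul_def, one_smul]
    rw [smul_smul, ← pow_add, add_comm m n, h2]

/-- The zero divisors on an indecomposable injective form a prime ideal. -/
theorem zeroDivisors_prime {E : Type u} [AddCommGroup E] [Module R E]
    (hE : _root_.InjHull.IsIndecomposable R E) (hinj : Module.Injective R E) :
    ∃ p : Ideal R, p.IsPrime ∧ (p : Set R) = {r : R | ∃ x : E, x ≠ 0 ∧ r • x = 0} := by
  have := hE.1
  refine ⟨⟨⟨⟨{r : R | ∃ x : E, x ≠ 0 ∧ r • x = 0}, ?_⟩, ?_⟩, ?_⟩, ⟨?_, ?_⟩, rfl⟩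
  · rintro r s ⟨x, hx0, hx⟩ ⟨y, hy0, hy⟩
    obtain ⟨c, hc, hc0⟩ := (uniform_of_indecomposable hE hinj (N := Submodule.span R {x})
      (by simpa using hx0)).2 y trivial hy0
    obtain ⟨d, hd⟩ := Submodule.mem_span_singleton.mp hc
    refine ⟨c • y, hc0, ?_⟩
    rw [add_smul, smul_comm s, hy, smul_zero, add_zero, ← hd, smul_comm r, hx, smul_zero]
  · obtain ⟨x, hx⟩ := exists_ne (0 : E)
    exact ⟨x, hx, zero_smul _ _⟩
  · rintro c r ⟨x, hx0, hx⟩
    exact ⟨x, hx0, by rw [smul_eq_mul, mul_smul, hx, smul_zero]⟩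
  · rw [Ideal.ne_top_iff_one]
    rintro ⟨x, hx0, hx⟩
    exact hx0 (by simpa using hx)
  · rintro r s ⟨x, hx0, hx⟩
    by_cases h : s • x = 0
    · exact Or.inr ⟨x, hx0, h⟩
    · exact Or.inl ⟨s • x, h, by rwa [smul_smul]⟩

end Groth.Agent.InjHull.Noetherian
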