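import Groth.Prelude.Def_Wider
import Mathlib.Algebra.Category.ModuleCat.EnoughInjectives
import Mathlib.Algebra.Category.ModuleCat.Injective
import Mathlib.LinearAlgebra.FreeModule.Basic
import Mathlib.RingTheory.Noetherian.Basic
import Mathlib.Algebra.DirectSum.Module
import Mathlib.RingTheory.Ideal.AssociatedPrime.Basic
import Mathlib.RingTheory.Filtration

/-!
# Essential extensions and injective hulls

General theory used by the `InjHull`, `Matlis` milestones.
-/

set_option autoImplicit false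

universe u v w

open CategoryTheory

namespace Groth.Agent.InjHull.Basic

section Ess

variable {R : Type u} [CommRing R]
variable {M : Type v} [AddCommGroup M] [Module R M]

/-- `N` is essential in `E'` (both submodules of an ambient module). -/
def EssIn (N E' : Submodule R M) : Prop :=
  N ≤ E' ∧ ∀ x ∈ E', x ≠ 0 → ∃ r : R, r • x ∈ N ∧ r • x ≠ 0

theorem essIn_refl (N : Submodule R M) : EssIn N N :=
  ⟨le_rfl, fun x hx hx0 => ⟨1, by simpa using hx, by simpa using hx0⟩⟩

theorem essIn_inf_ne_bot {N E' : Submodule R M} (h : EssIn N E') {K : Submodule R M}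
    (hK : K ≤ E') (hK0 : K ≠ ⊥) : K ⊓ N ≠ ⊥ := by
  obtain ⟨x, hxK, hx0⟩ := Submodule.exists_mem_ne_zero_of_ne_bot hK0
  obtain ⟨r, hr, hr0⟩ := h.2 x (hK hxK) hx0
  exact (Submodule.ne_bot_iff _).mpr ⟨r • x, ⟨K.smul_mem r hxK, hr⟩, hr0⟩

theorem essIn_iff {N E' : Submodule R M} :
    EssIn N E' ↔ N ≤ E' ∧ ∀ K : Submodule R M, K ≤ E' → K ≠ ⊥ → K ⊓ N ≠ ⊥ := by
  refine ⟨fun h => ⟨h.1, fun K hK hK0 => essIn_inf_ne_bot h hK hK0⟩, fun h => ⟨h.1, ?_⟩⟩
  intro x hx hx0
  have h1 := h.2 (Submodule.span R {x}) ((Submodule.span_singleton_le_iff_mem x E').mpr hx)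
    (by simpa [Submodule.span_singleton_eq_bot] using hx0)
  obtain ⟨y, hy, hy0⟩ := Submodule.exists_mem_ne_zero_of_ne_bot h1
  obtain ⟨r, rfl⟩ := Submodule.mem_span_singleton.mp (Submodule.mem_inf.mp hy).1
  exact ⟨r, (Submodule.mem_inf.mp hy).2, hy0⟩

theorem essIn_trans {A B C : Submodule R M} (h₁ : EssIn A B) (h₂ : EssIn B C) : EssIn A C := by
  refine ⟨h₁.1.trans h₂.1, fun x hx hx0 => ?_⟩
  obtain ⟨r, hr, hr0⟩ := h₂.2 x hx hx0
  obtain ⟨s, hs, hs0⟩ := h₁.2 _ hr hr0
  exact ⟨s * r, by rwa [mul_smul], by rwa [mul_smul]⟩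

/-- Zorn: maximal essential extension inside an ambient module. -/
theorem exists_max_essIn (N : Submodule R M) :
    ∃ E' : Submodule R M, EssIn N E' ∧ ∀ E'' : Submodule R M, E' ≤ E'' → EssIn N E'' → E'' = E' := by
  obtain ⟨E', -, hE'⟩ := zorn_le_nonempty₀ {E' : Submodule R M | EssIn N E'}
    (fun c hc hchain y hy => ⟨sSup c, ⟨(hc hy).1.trans (le_sSup hy), fun x hx hx0 => by
      rw [Submodule.mem_sSup_of_directed ⟨y, hy⟩ hchain.directedOn] at hx
      obtain ⟨E', hE', hxE'⟩ := hx
      exact (hc hE').2 x hxE' hx0⟩, fun z hz => le_sSup hz⟩) N (essIn_refl N)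
  exact ⟨E', hE'.prop, fun E'' hle hess => le_antisymm (hE'.le_of_ge hess hle) hle⟩

/-- Zorn: a submodule maximal among those meeting `N` trivially. -/
theorem exists_max_disjoint (N : Submodule R M) :
    ∃ C : Submodule R M, C ⊓ N = ⊥ ∧ ∀ C' : Submodule R M, C ≤ C' → C' ⊓ N = ⊥ → C' = C := by
  obtain ⟨C, -, hC⟩ := zorn_le_nonempty₀ {C : Submodule R M | C ⊓ N = ⊥}
    (fun c hc hchain y hy => ⟨sSup c, by
      rw [Set.mem_ofPred_eq, eq_bot_iff]
      intro x hx
      obtain ⟨hx1, hx2⟩ := Submodule.mem_inf.mp hx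
      rw [Submodule.mem_sSup_of_directed ⟨y, hy⟩ hchain.directedOn] at hx1
      obtain ⟨C, hC, hxC⟩ := hx1
      exact (hc hC) ▸ Submodule.mem_inf.mpr ⟨hxC, hx2⟩, fun z hz => le_sSup hz⟩) ⊥ (by simp)
  exact ⟨C, hC.prop, fun C' hle h => le_antisymm (hC.le_of_ge h hle) hle⟩

end Ess

section EssentialMaps

variable {R : Type u} [CommRing R]
variable {M E : Type v} [AddCommGroup M] [Module R M] [AddCommGroup E] [Module R E]

theorem essential_iff {f : M →ₗ[R] E} :
    (∀ N : Submodule R E, N ≠ ⊥ → N ⊓ LinearMap.range f ≠ ⊥) ↔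
      ∀ x : E, x ≠ 0 → ∃ r : R, r • x ∈ LinearMap.range f ∧ r • x ≠ 0 := by
  constructor
  · intro h x hx0
    exact (essIn_iff.mpr ⟨le_top, fun K _ hK => h K hK⟩ : EssIn (LinearMap.range f) ⊤).2 x
      trivial hx0
  · intro h N hN
    exact essIn_inf_ne_bot (⟨le_top, fun x _ hx => h x hx⟩ : EssIn (LinearMap.range f) ⊤) le_top hN

theorem isEssentialInj_iff {f : M →ₗ[R] E} :
    _root_.InjHull.IsEssentialInj f ↔ Function.Injective f ∧
      ∀ x : E, x ≠ 0 → ∃ r : R, r • x ∈ LinearMap.range f ∧ r • x ≠ 0 :=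
  ⟨fun h => ⟨h.1, essential_iff.mp h.2⟩, fun h => ⟨h.1, essential_iff.mpr h.2⟩⟩

theorem exists_smul_mem_range {f : M →ₗ[R] E} (hf : _root_.InjHull.IsEssentialInj f) {x : E}
    (hx : x ≠ 0) : ∃ (r : R) (m : M), f m = r • x ∧ r • x ≠ 0 := by
  obtain ⟨r, ⟨m, hm⟩, hr0⟩ := (isEssentialInj_iff.mp hf).2 x hx
  exact ⟨r, m, hm, hr0⟩

/-- If `g ∘ f` is injective and `f` is essential, then `g` is injective. -/
theorem injective_of_comp {F : Type w} [AddCommGroup F] [Module R F] {f : M →ₗ[R] E}
    (hf : _root_.InjHull.IsEssentialInj f) (g : E →ₗ[R] F)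
    (h : Function.Injective (g.comp f)) : Function.Injective g := by
  rw [← LinearMap.ker_eq_bot, Submodule.eq_bot_iff]
  intro x hx
  by_contra hx0
  obtain ⟨r, m, hm, hr0⟩ := exists_smul_mem_range hf hx0
  have : g (f m) = 0 := by rw [hm, map_smul, LinearMap.mem_ker.mp hx, smul_zero]
  have hm0 : m = 0 := h (by simpa using this)
  exact hr0 (by rw [← hm, hm0, map_zero])

theorem isEssentialInj_equiv_comp {F : Type v} [AddCommGroup F] [Module R F] {f : M →ₗ[R] E}
    (hf : _root_.InjHull.IsEssentialInj f) (e : E ≃ₗ[R] F) :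
    _root_.InjHull.IsEssentialInj (e.toLinearMap.comp f) := by
  refine isEssentialInj_iff.mpr ⟨e.injective.comp hf.injective, fun x hx => ?_⟩
  obtain ⟨r, m, hm, hr0⟩ := exists_smul_mem_range hf (x := e.symm x) (by simpa using hx)
  refine ⟨r, ⟨m, ?_⟩, ?_⟩
  · simp [hm]
  · intro h0
    exact hr0 (by rw [← map_smul, h0, map_zero])

theorem isEssentialInj_comp {F : Type v} [AddCommGroup F] [Module R F] {f : M →ₗ[R] E}
    (hf : _root_.InjHull.IsEssentialInj f) {g : E →ₗ[R] F}
    (hg : _root_.InjHull.IsEssentialInj g) : _root_.InjHull.IsEssentialInj (g.comp f) := by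
  refine isEssentialInj_iff.mpr ⟨hg.injective.comp hf.injective, fun x hx => ?_⟩
  obtain ⟨r, y, hy, hr0⟩ := exists_smul_mem_range hg hx
  have hy0 : y ≠ 0 := fun h => hr0 (by rw [← hy, h, map_zero])
  obtain ⟨s, m, hm, hs0⟩ := exists_smul_mem_range hf hy0
  refine ⟨s * r, ⟨m, ?_⟩, ?_⟩
  · rw [LinearMap.comp_apply, hm, map_smul, hy, mul_smul]
  · rw [mul_smul, ← hy, ← map_smul]
    exact fun h => hs0 (hg.injective (by simpa using h))

end EssentialMaps

section InjModules

variable {R : Type u} [CommRing R]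
variable {M E : Type u} [AddCommGroup M] [Module R M] [AddCommGroup E] [Module R E]

theorem injective_of_retract (hE : Module.Injective R E) (i : M →ₗ[R] E) (p : E →ₗ[R] M)
    (h : ∀ m, p (i m) = m) : Module.Injective R M := by
  refine ⟨fun X Y _ _ _ _ f hf g => ?_⟩
  obtain ⟨l, hl⟩ := Module.Injective.out f hf (i.comp g)
  exact ⟨p.comp l, fun x => by rw [LinearMap.comp_apply, hl, LinearMap.comp_apply, h]⟩

theorem injective_of_equiv (hE : Module.Injective R E) (e : E ≃ₗ[R] M) : Module.Injective R M :=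
  injective_of_retract hE e.symm.toLinearMap e.toLinearMap (by simp)

/-- An injective submodule is a direct summand. -/
theorem exists_isCompl_of_injective {E : Type u} [AddCommGroup E] [Module R E] (N : Submodule R E)
    (hN : Module.Injective R N) : ∃ C : Submodule R E, IsCompl N C := by
  obtain ⟨p, hp⟩ := Module.Injective.out N.subtype N.injective_subtype (LinearMap.id)
  exact ⟨LinearMap.ker p, LinearMap.isCompl_of_proj (by simpa using hp)⟩

theorem injective_of_isCompl {E : Type u} [AddCommGroup E] [Module R E] (hE : Module.Injective R E)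
    {N C : Submodule R E} (h : IsCompl N C) : Module.Injective R N :=
  injective_of_retract hE N.subtype (N.projectionOnto C h) (fun m =>
    Submodule.projectionOnto_apply_left h m)

theorem extend (hE : Module.Injective R E) {X Y : Type u} [AddCommGroup X] [Module R X]
    [AddCommGroup Y] [Module R Y] (i : X →ₗ[R] Y) (hi : Function.Injective i) (g : X →ₗ[R] E) :
    ∃ h : Y →ₗ[R] E, h.comp i = g :=
  (Module.Injective.out i hi g).imp fun _ h => LinearMap.ext h

/-- A submodule of an injective module without proper essential extension is injective. -/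
theorem injective_of_no_proper_essential {I : Type u} [AddCommGroup I] [Module R I]
    (hI : Module.Injective R I) (N : Submodule R I)
    (h : ∀ E' : Submodule R I, EssIn N E' → E' = N) : Module.Injective R N := by
  obtain ⟨C, hC, hCmax⟩ := exists_max_disjoint N
  have hinj : Function.Injective (C.mkQ.comp N.subtype) := by
    rw [← LinearMap.ker_eq_bot, Submodule.eq_bot_iff]
    intro x hx
    have : (x : I) ∈ C := by simpa using hx
    have : (x : I) ∈ C ⊓ N := ⟨this, x.2⟩
    rw [hC] at this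
    exact Subtype.ext (by simpa using this)
  obtain ⟨g, hg⟩ := extend hI (C.mkQ.comp N.subtype) hinj N.subtype
  have hess : ∀ z : I ⧸ C, z ≠ 0 → ∃ r : R, ∃ n : N, C.mkQ n = r • z ∧ r • z ≠ 0 := by
    intro z hz
    obtain ⟨y, rfl⟩ := C.mkQ_surjective z
    have hy : y ∉ C := by simpa using hz
    have h1 : (C ⊔ Submodule.span R {y}) ⊓ N ≠ ⊥ := fun h0 => hy (by
      have := hCmax _ le_sup_left h0
      rw [← this]
      exact Submodule.mem_sup_right (Submodule.mem_span_singleton_self y))
    obtain ⟨n, hn, hn0⟩ := Submodule.exists_mem_ne_zero_of_ne_bot h1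
    obtain ⟨hn1, hn2⟩ := Submodule.mem_inf.mp hn
    obtain ⟨c, hc, w, hw, rfl⟩ := Submodule.mem_sup.mp hn1
    obtain ⟨r, rfl⟩ := Submodule.mem_span_singleton.mp hw
    have he : C.mkQ (c + r • y) = r • C.mkQ y := by
      rw [map_add, map_smul, show C.mkQ c = 0 from (Submodule.Quotient.mk_eq_zero C).mpr hc,
        zero_add]
    refine ⟨r, ⟨_, hn2⟩, he, fun h0 => hn0 ?_⟩
    have hh : C.mkQ.comp N.subtype ⟨_, hn2⟩ = C.mkQ.comp N.subtype 0 := by
      rw [map_zero, LinearMap.comp_apply, Submodule.subtype_apply, he, h0]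
    simpa using congrArg Subtype.val (hinj hh)
  have hgN : ∀ n : N, g (C.mkQ n) = n := fun n => LinearMap.congr_fun hg n
  have hginj : Function.Injective g := by
    rw [← LinearMap.ker_eq_bot, Submodule.eq_bot_iff]
    intro z hz
    by_contra hz0
    obtain ⟨r, n, hn, hr0⟩ := hess z hz0
    have : (n : I) = 0 := by rw [← hgN n, hn, map_smul, LinearMap.mem_ker.mp hz, smul_zero]
    exact hr0 (by rw [← hn, this, map_zero])
  have hrange : LinearMap.range g = N := by
    refine h _ ⟨fun n hn => ⟨_, hgN ⟨n, hn⟩⟩, ?_⟩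
    rintro _ ⟨z, rfl⟩ hz0
    have hz0' : z ≠ 0 := fun hz => hz0 (by rw [hz, map_zero])
    obtain ⟨r, n, hn, hr0⟩ := hess z hz0'
    refine ⟨r, ?_, ?_⟩
    · rw [← map_smul, ← hn, hgN]; exact n.2
    · rw [← map_smul]; exact fun h0 => hr0 (hginj (by rw [h0, map_zero]))
  refine injective_of_retract hI N.subtype ((g.comp C.mkQ).codRestrict N
    (fun x => hrange ▸ ⟨C.mkQ x, rfl⟩)) (fun n => Subtype.ext (hgN n))

/-- S1728-type characterisation. -/
theorem injective_iff_no_proper_essential {I : Type u} [AddCommGroup I] [Module R I]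
    (hI : Module.Injective R I) (N : Submodule R I) :
    Module.Injective R N ↔ ∀ E' : Submodule R I, EssIn N E' → E' = N := by
  refine ⟨fun hN E' hE' => le_antisymm ?_ hE'.1, injective_of_no_proper_essential hI N⟩
  obtain ⟨C, hC⟩ := exists_isCompl_of_injective N hN
  intro x hx
  obtain ⟨n, hn, c, hc, rfl⟩ := Submodule.mem_sup.mp (hC.sup_eq_top ▸ Submodule.mem_top (x := x))
  have hcE : c ∈ E' := by simpa using E'.sub_mem hx (hE'.1 hn)
  by_contra hne
  have hc0 : c ≠ 0 := fun h => hne (by simpa [h] using hn)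
  obtain ⟨r, hr, hr0⟩ := hE'.2 c hcE hc0
  exact hr0 (Submodule.disjoint_def.mp hC.disjoint _ hr (C.smul_mem r hc))

/-- Inside an injective module every submodule has an injective hull. -/
theorem exists_hull_in {I : Type u} [AddCommGroup I] [Module R I] (hI : Module.Injective R I)
    (N : Submodule R I) : ∃ E' : Submodule R I, EssIn N E' ∧ Module.Injective R E' := by
  obtain ⟨E', hE', hmax⟩ := exists_max_essIn N
  exact ⟨E', hE', injective_of_no_proper_essential hI E'
    fun E'' h => hmax E'' h.1 (essIn_trans hE' h)⟩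

variable (R) in
/-- Every module embeds in an injective module of the same universe. -/
theorem exists_injective_embedding (M : Type u) [AddCommGroup M] [Module R M] :
    ∃ (I : Type u) (_ : AddCommGroup I) (_ : Module R I) (i : M →ₗ[R] I),
      Function.Injective i ∧ Module.Injective R I := by
  obtain ⟨P⟩ := (inferInstance : EnoughInjectives (ModuleCat.{u} R)).presentation (ModuleCat.of R M)
  exact ⟨P.J, inferInstance, inferInstance, P.f.hom, (ModuleCat.mono_iff_injective _).mp P.mono,
    @Module.injective_module_of_injective_object R P.J _ _ _ P.injective⟩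

variable (R) in
theorem exists_isInjectiveHull (M : Type u) [AddCommGroup M] [Module R M] :
    ∃ (E : Type u) (_ : AddCommGroup E) (_ : Module R E) (f : M →ₗ[R] E),
      _root_.InjHull.IsInjectiveHull f := by
  obtain ⟨I, _, _, i, hi, hI⟩ := exists_injective_embedding R M
  obtain ⟨E', hE', hinj⟩ := exists_hull_in hI (LinearMap.range i)
  refine ⟨E', inferInstance, inferInstance, i.codRestrict E' (fun m => hE'.1 ⟨m, rfl⟩),
    isEssentialInj_iff.mpr ⟨fun a b h => hi (congrArg Subtype.val h), fun x hx => ?_⟩, hinj⟩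
  obtain ⟨r, ⟨m, hm⟩, hr0⟩ := hE'.2 x x.2 (by simpa using hx)
  exact ⟨r, ⟨m, Subtype.ext hm⟩, fun h => hr0 (by simpa using congrArg Subtype.val h)⟩

/-- An injective hull maps injectively into every injective containing the module. -/
theorem hull_embeds {f : M →ₗ[R] E} (hf : _root_.InjHull.IsInjectiveHull f) {I : Type u}
    [AddCommGroup I] [Module R I] (hI : Module.Injective R I) (i : M →ₗ[R] I)
    (hi : Function.Injective i) :
    ∃ α : E →ₗ[R] I, Function.Injective α ∧ α.comp f = i ∧ ∃ I', IsCompl (LinearMap.range α) I' := by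
  obtain ⟨α, hα⟩ := extend hI f hf.injective i
  have hinj := injective_of_comp hf.toIsEssentialInj α (hα ▸ hi)
  exact ⟨α, hinj, hα, exists_isCompl_of_injective _
    (injective_of_equiv hf.isInjective (LinearEquiv.ofInjective α hinj))⟩

theorem hull_unique {E' : Type u} [AddCommGroup E'] [Module R E'] {f : M →ₗ[R] E}
    (hf : _root_.InjHull.IsInjectiveHull f) {g : M →ₗ[R] E'}
    (hg : _root_.InjHull.IsInjectiveHull g) : ∃ e : E ≃ₗ[R] E', e.toLinearMap ∘ₗ f = g := by
  obtain ⟨α, hinj, hα, C, hC⟩ := hull_embeds hf hg.isInjective g hg.injective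
  have hC0 : C = ⊥ := by
    by_contra hne
    refine hg.essential C hne (eq_bot_iff.mpr ?_)
    rintro _ ⟨hxC, m, rfl⟩
    exact Submodule.disjoint_def.mp hC.disjoint (g m) ⟨f m, LinearMap.congr_fun hα m⟩ hxC
  refine ⟨LinearEquiv.ofBijective α ⟨hinj, LinearMap.range_eq_top.mp ?_⟩, hα⟩
  simpa [hC0] using hC.sup_eq_top

theorem isInjectiveHull_equiv_comp {E' : Type u} [AddCommGroup E'] [Module R E'] {f : M →ₗ[R] E}
    (hf : _root_.InjHull.IsInjectiveHull f) (e : E ≃ₗ[R] E') :
    _root_.InjHull.IsInjectiveHull (e.toLinearMap.comp f) :=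
  ⟨isEssentialInj_equiv_comp hf.toIsEssentialInj e, injective_of_equiv hf.isInjective e⟩

/-- Every nonzero submodule of an indecomposable injective is essential. -/
theorem uniform_of_indecomposable (hE : _root_.InjHull.IsIndecomposable R E)
    (hinj : Module.Injective R E) {N : Submodule R E} (hN : N ≠ ⊥) : EssIn N ⊤ := by
  obtain ⟨E', hess, hE'⟩ := exists_hull_in hinj N
  obtain ⟨C, hC⟩ := exists_isCompl_of_injective E' hE'
  rcases hE.2 _ _ hC with h | h
  · exact absurd (le_bot_iff.mp (h ▸ hess.1)) hN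
  · have : E' = ⊤ := by simpa [h] using hC.sup_eq_top
    exact this ▸ hess

/-- A module all of whose nonzero submodules meet is indecomposable. -/
theorem indecomposable_of_uniform [Nontrivial E]
    (h : ∀ N N' : Submodule R E, N ≠ ⊥ → N' ≠ ⊥ → N ⊓ N' ≠ ⊥) :
    _root_.InjHull.IsIndecomposable R E :=
  ⟨inferInstance, fun N N' hc => by
    by_contra hne
    rw [not_or] at hne
    exact h N N' hne.1 hne.2 hc.inf_eq_bot⟩

end InjModules

end Groth.Agent.InjHull.Basic
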