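import Groth.Agent.InjHull.Matlis

/-!
# Recognising the injective hull of the residue field by lengths
-/

set_option autoImplicit false

universe u

namespace Groth.Agent.InjHull.Recognize

open IsLocalRing Groth.Agent.InjHull.Basic

variable {A : Type u} [CommRing A] [IsLocalRing A] [IsNoetherianRing A]
variable {I : Type u} [AddCommGroup I] [Module A I]

theorem isFiniteLength_quotient_of_pow_le {a : Ideal A} {N : ℕ} (h : maximalIdeal A ^ N ≤ a) :
    IsFiniteLength A (A ⧸ a) :=
  (Matlis.isFiniteLength_quotient_pow N).of_surjective (f := Submodule.factor h)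
    (Submodule.factor_surjective h)

/-- Power torsion, socle of length at most one, right lengths along a cofinal system of ideals:
injective hull of the residue field. -/
theorem exists_hull_of_lengths (ha : LocCoh.IsPowerTorsion (maximalIdeal A) I)
    (hsoc : Module.length A (LocCoh.torsionBy (maximalIdeal A) I) = 1) (a : ℕ → Ideal A)
    (hcof : ∀ n : ℕ, ∃ N : ℕ, maximalIdeal A ^ N ≤ a n)
    (hcof' : ∀ N : ℕ, ∃ n : ℕ, a n ≤ maximalIdeal A ^ N)
    (hlen : ∀ n : ℕ, Module.length A (LocCoh.torsionBy (a n) I) = Module.length A (A ⧸ a n)) :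
    ∃ f : ResidueField A →ₗ[A] I, _root_.InjHull.IsInjectiveHull f := by
  obtain ⟨E, _, _, h, hh⟩ := exists_isInjectiveHull A (ResidueField A)
  let V := LocCoh.torsionBy (maximalIdeal A) I
  have hVsimple : IsSimpleModule A V := Module.length_eq_one_iff.mp hsoc
  obtain ⟨m, hm, ⟨e⟩⟩ := isSimpleModule_iff_quot_maximal.mp hVsimple
  obtain rfl : m = maximalIdeal A := IsLocalRing.eq_maximalIdeal hm
  obtain ⟨g, hg⟩ := extend hh.isInjective V.subtype V.injective_subtype (h.comp e.toLinearMap)
  have hg' : ∀ v : V, g (v : I) = h (e v) := fun v => LinearMap.congr_fun hg v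
  have hginj : Function.Injective g := Matlis.injective_of_socle ha g fun x hx h0 => by
    have hxV : x ∈ V := (Submodule.mem_torsionBySet_iff _ _).mpr fun b => hx b b.2
    have hv : e ⟨x, hxV⟩ = 0 := hh.injective ((hg' ⟨x, hxV⟩).symm.trans (h0.trans (map_zero h).symm))
    simpa using congrArg Subtype.val (e.injective (hv.trans (map_zero e).symm))
  have hsurj : Function.Surjective g := by
    intro y
    obtain ⟨N, hN⟩ := Matlis.isPowerTorsion_hull hh y
    obtain ⟨n, hn⟩ := hcof' N
    obtain ⟨N', hN'⟩ := hcof n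
    let V' := LocCoh.torsionBy (a n) I
    let W' := LocCoh.torsionBy (a n) E
    let g' : V' →ₗ[A] W' := g.restrict fun x hx => (Submodule.mem_torsionBySet_iff _ _).mpr fun b => by
      rw [← map_smul, (Submodule.mem_torsionBySet_iff _ _).mp hx b, map_zero]
    have hfin := isFiniteLength_quotient_of_pow_le hN'
    let ψ : ((A ⧸ a n) →ₗ[A] E) →ₗ[A] W' :=
      (LinearMap.applyₗ (Submodule.Quotient.mk (1 : A))).codRestrict _ fun φ =>
        (Submodule.mem_torsionBySet_iff _ _).mpr fun b => by
          rw [LinearMap.applyₗ_apply_apply, ← map_smul, ← Submodule.Quotient.mk_smul,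
            show (Submodule.Quotient.mk ((b : A) • (1 : A)) : A ⧸ a n) = 0 from
              (Submodule.Quotient.mk_eq_zero (a n)).mpr (by simp), map_zero]
    have hψ : Function.Bijective ψ := by
      refine ⟨fun φ φ' h' => Submodule.linearMap_qext _ (LinearMap.ext_ring ?_), fun w => ?_⟩
      · exact congrArg Subtype.val h'
      · have hle : a n ≤ LinearMap.ker (LinearMap.toSpanSingleton A E w) := fun b hb => by
          rw [LinearMap.mem_ker, LinearMap.toSpanSingleton_apply]
          exact (Submodule.mem_torsionBySet_iff _ _).mp w.2 ⟨b, hb⟩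
        exact ⟨Submodule.liftQ _ _ hle, Subtype.ext (one_smul _ _)⟩
    have hW : Module.length A W' = Module.length A (A ⧸ a n) :=
      (LinearEquiv.ofBijective ψ hψ).length_eq.symm.trans (Matlis.length_dual hh hfin)
    have hg'inj : Function.Injective g' := fun x y hxy =>
      Subtype.ext (hginj (congrArg Subtype.val hxy))
    have h3 := Module.length_eq_add_of_exact g' (LinearMap.range g').mkQ hg'inj
      (Submodule.mkQ_surjective _) (LinearMap.exact_map_mkQ_range g')
    rw [hW, hlen n] at h3
    have h4 := (WithTop.add_left_cancel (Module.length_ne_top_iff.mpr hfin)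
      ((add_zero _).trans h3)).symm
    have htop := Submodule.Quotient.subsingleton_iff.mp (Module.length_eq_zero_iff.mp h4)
    have hyW : y ∈ W' := (Submodule.mem_torsionBySet_iff _ _).mpr fun b => hN b (hn b.2)
    obtain ⟨x, hx⟩ := LinearMap.range_eq_top.mp htop ⟨y, hyW⟩
    exact ⟨x, congrArg Subtype.val hx⟩
  let eg := LinearEquiv.ofBijective g ⟨hginj, hsurj⟩
  exact ⟨eg.symm.toLinearMap.comp h, isInjectiveHull_equiv_comp hh eg.symm⟩

/-- `Hom(R/a, M) ≃ M[a]`. -/
noncomputable def homQuotientEquiv {R : Type u} [CommRing R] (a : Ideal R) (M : Type u) [AddCommGroup M]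
    [Module R M] : ((R ⧸ a) →ₗ[R] M) ≃ₗ[R] LocCoh.torsionBy a M :=
  LinearEquiv.ofBijective
    ((LinearMap.applyₗ (Submodule.Quotient.mk (1 : R))).codRestrict _ fun φ =>
      (Submodule.mem_torsionBySet_iff _ _).mpr fun b => by
        rw [LinearMap.applyₗ_apply_apply, ← map_smul, ← Submodule.Quotient.mk_smul,
          show (Submodule.Quotient.mk ((b : R) • (1 : R)) : R ⧸ a) = 0 from
            (Submodule.Quotient.mk_eq_zero a).mpr (by simp), map_zero])
    ⟨fun φ φ' h' => Submodule.linearMap_qext _ (LinearMap.ext_ring (congrArg Subtype.val h')),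
      fun w => by
        have hle : a ≤ LinearMap.ker (LinearMap.toSpanSingleton R M w) := fun b hb => by
          rw [LinearMap.mem_ker, LinearMap.toSpanSingleton_apply]
          exact (Submodule.mem_torsionBySet_iff _ _).mp w.2 ⟨b, hb⟩
        exact ⟨Submodule.liftQ _ _ hle, Subtype.ext (one_smul _ _)⟩⟩

end Groth.Agent.InjHull.Recognize
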