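import Groth.Agent.InjHull.Noetherian
import Mathlib.RingTheory.LocalRing.ResidueField.Ideal
import Mathlib.RingTheory.LocalProperties.Injective
import Mathlib.LinearAlgebra.DFinsupp

/-!
# Injective hulls of `R ⧸ p`, indecomposable injectives, localisation of essential extensions
-/

set_option autoImplicit false

universe u v

namespace Groth.Agent.InjHull.Prime

open Groth.Agent.InjHull.Basic Groth.Agent.InjHull.Noetherian

variable {R : Type u} [CommRing R]
variable {E : Type u} [AddCommGroup E] [Module R E]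

theorem smul_eq_zero_of_prime (p : Ideal R) [p.IsPrime] {r : R} {a : R ⧸ p} :
    r • a = 0 ↔ r ∈ p ∨ a = 0 := by
  rw [Algebra.smul_def, Ideal.Quotient.algebraMap_eq, mul_eq_zero,
    Ideal.Quotient.eq_zero_iff_mem]

/-- An essential extension of `R ⧸ p` is uniform. -/
theorem uniform_of_quotient_prime {p : Ideal R} [p.IsPrime] {f : (R ⧸ p) →ₗ[R] E}
    (hf : _root_.InjHull.IsEssentialInj f) {N N' : Submodule R E} (hN : N ≠ ⊥) (hN' : N' ≠ ⊥) :
    N ⊓ N' ≠ ⊥ := by
  obtain ⟨x, hx, hx0⟩ := Submodule.exists_mem_ne_zero_of_ne_bot hN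
  obtain ⟨y, hy, hy0⟩ := Submodule.exists_mem_ne_zero_of_ne_bot hN'
  obtain ⟨r, a, ha, hr0⟩ := exists_smul_mem_range hf hx0
  obtain ⟨s, b, hb, hs0⟩ := exists_smul_mem_range hf hy0
  obtain ⟨a', rfl⟩ := Ideal.Quotient.mk_surjective a
  obtain ⟨b', rfl⟩ := Ideal.Quotient.mk_surjective b
  refine (Submodule.ne_bot_iff _).mpr ⟨f (Ideal.Quotient.mk p (a' * b')), ⟨?_, ?_⟩, ?_⟩
  · have : f (Ideal.Quotient.mk p (a' * b')) = b' • f (Ideal.Quotient.mk p a') := by
      rw [← map_smul, mul_comm]; rfl
    rw [this, ha, smul_smul]; exact N.smul_mem _ hx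
  · have : f (Ideal.Quotient.mk p (a' * b')) = a' • f (Ideal.Quotient.mk p b') := by
      rw [← map_smul]; rfl
    rw [this, hb, smul_smul]; exact N'.smul_mem _ hy
  · intro h
    have h0 := hf.injective (h.trans (map_zero f).symm)
    rw [map_mul, mul_eq_zero] at h0
    rcases h0 with h0 | h0
    · exact hr0 (by rw [← ha, h0, map_zero])
    · exact hs0 (by rw [← hb, h0, map_zero])

theorem indecomposable_of_quotient_prime {p : Ideal R} [hp : p.IsPrime] {f : (R ⧸ p) →ₗ[R] E}
    (hf : _root_.InjHull.IsEssentialInj f) : _root_.InjHull.IsIndecomposable R E := by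
  have : Nontrivial (R ⧸ p) := Ideal.Quotient.nontrivial_iff.mpr hp.ne_top
  have : Nontrivial E := hf.injective.nontrivial
  exact indecomposable_of_uniform fun N N' h h' => uniform_of_quotient_prime hf h h'

theorem isEssentialInj_residueField (p : Ideal R) [p.IsPrime] :
    _root_.InjHull.IsEssentialInj
      ((Algebra.linearMap (R ⧸ p) p.ResidueField).restrictScalars R) := by
  refine isEssentialInj_iff.mpr ⟨IsFractionRing.injective (R ⧸ p) p.ResidueField, fun z hz => ?_⟩
  obtain ⟨⟨a, s⟩, h⟩ := IsLocalization.surj (nonZeroDivisors (R ⧸ p)) z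
  obtain ⟨b, hb⟩ := Ideal.Quotient.mk_surjective (s : R ⧸ p)
  have hbz : b • z = algebraMap (R ⧸ p) p.ResidueField a := by
    rw [Algebra.smul_def, IsScalarTower.algebraMap_apply R (R ⧸ p) p.ResidueField,
      Ideal.Quotient.algebraMap_eq, hb, mul_comm]
    exact h
  refine ⟨b, ⟨a, hbz.symm⟩, ?_⟩
  rw [Algebra.smul_def, mul_ne_zero_iff, IsScalarTower.algebraMap_apply R (R ⧸ p) p.ResidueField,
    Ideal.Quotient.algebraMap_eq, hb]
  exact ⟨IsFractionRing.to_map_ne_zero_of_mem_nonZeroDivisors s.2, hz⟩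

theorem exists_residueField_hull {p : Ideal R} [p.IsPrime] {f : (R ⧸ p) →ₗ[R] E}
    (hf : _root_.InjHull.IsInjectiveHull f) :
    ∃ g : p.ResidueField →ₗ[R] E, _root_.InjHull.IsInjectiveHull g := by
  have hι := isEssentialInj_residueField p
  obtain ⟨g, hg⟩ := extend hf.isInjective _ hι.injective f
  have hginj := injective_of_comp hι g (by rw [hg]; exact hf.injective)
  refine ⟨g, isEssentialInj_iff.mpr ⟨hginj, fun x hx => ?_⟩, hf.isInjective⟩
  obtain ⟨r, a, ha, hr0⟩ := exists_smul_mem_range hf.toIsEssentialInj hx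
  exact ⟨r, ⟨_, (LinearMap.congr_fun hg a).trans ha⟩, hr0⟩

theorem exists_prime_embedding [IsNoetherianRing R] (N : Type u) [AddCommGroup N] [Module R N]
    [Nontrivial N] : ∃ (p : Ideal R) (_ : p.IsPrime) (f : (R ⧸ p) →ₗ[R] N), Function.Injective f := by
  obtain ⟨P, hP⟩ := associatedPrimes.nonempty R N
  obtain ⟨h, f, hf⟩ := (isAssociatedPrime_iff_exists_injective_linearMap P N).mp hP
  exact ⟨P, h, f, hf⟩

theorem exists_prime_hull_of_indecomposable [IsNoetherianRing R]
    (hE : _root_.InjHull.IsIndecomposable R E) (hinj : Module.Injective R E) :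
    ∃ (p : Ideal R) (_ : p.IsPrime) (f : (R ⧸ p) →ₗ[R] E), _root_.InjHull.IsInjectiveHull f := by
  have := hE.1
  obtain ⟨p, hp, f, hf⟩ := exists_prime_embedding (R := R) E
  have : Nontrivial (R ⧸ p) := Ideal.Quotient.nontrivial_iff.mpr hp.ne_top
  have hne : LinearMap.range f ≠ ⊥ := by
    rw [ne_eq, LinearMap.range_eq_bot]
    intro h0
    obtain ⟨x, hx⟩ := exists_ne (0 : R ⧸ p)
    exact hx (hf (by simp [h0]))
  exact ⟨p, hp, f, isEssentialInj_iff.mpr ⟨hf, fun x hx =>
    (uniform_of_indecomposable hE hinj hne).2 x trivial hx⟩, hinj⟩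

/-- Every nonzero injective module contains an indecomposable injective submodule. -/
theorem exists_indecomposable_le [IsNoetherianRing R] {I : Type u} [AddCommGroup I] [Module R I]
    {C : Submodule R I} (hC : Module.Injective R C) (hC0 : C ≠ ⊥) :
    ∃ E' : Submodule R I, E' ≤ C ∧ _root_.InjHull.IsIndecomposable R E' ∧
      Module.Injective R E' := by
  have : Nontrivial C := Submodule.nontrivial_iff_ne_bot.mpr hC0
  obtain ⟨p, hp, f, hf⟩ := exists_prime_embedding (R := R) C
  obtain ⟨H, hess, hH⟩ := exists_hull_in hC (LinearMap.range f)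
  let e := Submodule.equivMapOfInjective C.subtype C.injective_subtype H
  have hf' : _root_.InjHull.IsEssentialInj (f.codRestrict H fun a => hess.1 ⟨a, rfl⟩) := by
    refine isEssentialInj_iff.mpr ⟨fun a b h => hf (congrArg Subtype.val h), fun x hx => ?_⟩
    obtain ⟨r, ⟨m, hm⟩, hr0⟩ := hess.2 x x.2 (by simpa using hx)
    exact ⟨r, ⟨m, Subtype.ext hm⟩, fun h => hr0 (by simpa using congrArg Subtype.val h)⟩
  refine ⟨H.map C.subtype, Submodule.map_subtype_le C H, ?_, injective_of_equiv hH e⟩
  exact indecomposable_of_quotient_prime (isEssentialInj_equiv_comp hf' e)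

theorem exists_isInternal_indecomposable [IsNoetherianRing R] {I : Type u} [AddCommGroup I]
    [Module R I] (hI : Module.Injective R I) :
    open Classical in ∃ (ι : Type u) (E : ι → Submodule R I), DirectSum.IsInternal E ∧
      ∀ i, _root_.InjHull.IsIndecomposable R (E i) ∧ Module.Injective R (E i) := by
  classical
  let P : Set (Set (Submodule R I)) := {s | sSupIndep s ∧
    ∀ a ∈ s, _root_.InjHull.IsIndecomposable R a ∧ Module.Injective R a}
  obtain ⟨s, hs⟩ := zorn_subset P (fun c hc hchain =>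
    ⟨⋃₀ c, ⟨iSupIndep_sUnion_of_directed hchain.directedOn fun a ha => (hc ha).1,
      fun a ⟨t, ht, hat⟩ => (hc ht).2 a hat⟩, fun t ht => Set.subset_sUnion_of_mem ht⟩)
  obtain ⟨hind, hmem⟩ := hs.prop
  have hind' : iSupIndep (fun a : s => (a : Submodule R I)) := (sSupIndep_iff s).mp hind
  let φ := DirectSum.coeLinearMap (fun a : s => (a : Submodule R I))
  have hφ : Function.Injective φ := iSupIndep.dfinsupp_lsum_injective hind'
  have hinjN : Module.Injective R (LinearMap.range φ) :=
    injective_of_equiv (injective_directSum (fun a : s => ↥(a : Submodule R I))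
      fun a => (hmem a a.2).2) (LinearEquiv.ofInjective φ hφ)
  obtain ⟨C, hC⟩ := exists_isCompl_of_injective _ hinjN
  have hrange : LinearMap.range φ = sSup s := by
    rw [DirectSum.range_coeLinearMap, sSup_eq_iSup']
  have hC0 : C = ⊥ := by
    by_contra hne
    obtain ⟨E', hle, hE', hE'inj⟩ :=
      exists_indecomposable_le (injective_of_isCompl hI hC.symm) hne
    have hdisj : Disjoint (sSup s) E' := (hrange ▸ hC.disjoint).mono_right hle
    have hE'0 : E' ≠ ⊥ := Submodule.nontrivial_iff_ne_bot.mp hE'.1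
    have hnotin : E' ∉ s := fun h => hE'0 (disjoint_self.mp (hdisj.mono_left (le_sSup h)))
    have hins : insert E' s ∈ P := by
      refine ⟨fun a ha => ?_, ?_⟩
      · rcases Set.mem_insert_iff.mp ha with rfl | has
        · rw [Set.insert_sdiff_self_of_notMem hnotin]
          exact hdisj.symm
        · rw [Submodule.disjoint_def]
          intro x hxa hx
          have hne : E' ∉ ({a} : Set (Submodule R I)) := fun h => hnotin ((Set.mem_singleton_iff.mp h) ▸ has)
          rw [Set.insert_sdiff_of_notMem _ hne, sSup_insert] at hx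
          obtain ⟨e, he, b, hb, rfl⟩ := Submodule.mem_sup.mp hx
          have hbN : b ∈ sSup s := (sSup_le_sSup Set.sdiff_subset : sSup (s \ {a}) ≤ sSup s) hb
          have he0 : e = 0 := Submodule.disjoint_def.mp hdisj e
            (by simpa using (sSup s).sub_mem (le_sSup has hxa) hbN) he
          subst he0
          rw [zero_add] at hxa ⊢
          exact Submodule.disjoint_def.mp (hind has) b hxa hb
      · intro a ha
        rcases Set.mem_insert_iff.mp ha with rfl | has
        · exact ⟨hE', hE'inj⟩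
        · exact hmem a has
    exact hnotin (hs.le_of_ge hins (Set.subset_insert _ _) (Set.mem_insert _ _))
  refine ⟨s, fun a => (a : Submodule R I), ?_, fun a => hmem a a.2⟩
  have htop : (⨆ a : s, (a : Submodule R I)) = ⊤ := by
    rw [← sSup_eq_iSup', ← hrange]
    simpa [hC0] using hC.sup_eq_top
  convert DirectSum.isInternal_submodule_of_iSupIndep_of_iSup_eq_top hind' htop

section Localized

variable [IsNoetherianRing R] (S : Submonoid R)

theorem exists_smul_localized {M : Type v} [AddCommGroup M] [Module R M] {N : Submodule R M}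
    (hN : ∀ x : M, x ≠ 0 → ∃ r : R, r • x ∈ N ∧ r • x ≠ 0) (x : M) (s : S)
    (hx : LocalizedModule.mk x s ≠ 0) :
    ∃ (c : Localization S) (n : M), n ∈ N ∧ c • LocalizedModule.mk x s = LocalizedModule.mk n 1 ∧
      LocalizedModule.mk n (1 : S) ≠ 0 := by
  let ann : M → Ideal R := fun y => LinearMap.ker (LinearMap.toSpanSingleton R M y)
  obtain ⟨_, ⟨t, rfl⟩, ht⟩ := set_has_maximal_iff_noetherian.mpr (inferInstanceAs (IsNoetherian R R))
    (Set.range fun t : S => ann ((t : R) • x)) ⟨_, ⟨1, rfl⟩⟩
  set y := (t : R) • x with hy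
  have hstab : ∀ (u : S) (r : R), r • ((u : R) • y) = 0 → r • y = 0 := by
    intro u r hr
    have hle : ann y ≤ ann (((u * t : S) : R) • x) := fun a ha => by
      simp only [ann, LinearMap.mem_ker, LinearMap.toSpanSingleton_apply] at ha ⊢
      rw [Submonoid.coe_mul, mul_smul, smul_comm, ← hy, ha, smul_zero]
    have heq : ann y = ann (((u * t : S) : R) • x) :=
      eq_of_le_of_not_lt hle fun hlt => ht _ ⟨u * t, rfl⟩ hlt
    have : r ∈ ann (((u * t : S) : R) • x) := by
      simp only [ann, LinearMap.mem_ker, LinearMap.toSpanSingleton_apply]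
      rw [Submonoid.coe_mul, mul_smul, ← hy, hr]
    rw [← heq] at this
    simpa [ann] using this
  classical
  by_contra hcon
  push Not at hcon
  let a : Ideal R := N.comap (LinearMap.toSpanSingleton R M y)
  obtain ⟨T, hT⟩ := IsNoetherian.noetherian a
  have hkill : ∀ r ∈ a, ∃ u : S, (u : R) • (r • y) = 0 := by
    intro r hr
    have := hcon (Localization.mk (r * t * s) 1) (r • y) (by simpa [a] using hr) (by
      rw [LocalizedModule.mk_smul_mk, LocalizedModule.mk_eq]
      exact ⟨1, by simp only [one_smul, Submonoid.smul_def, hy, smul_smul, mul_one, mul_comm,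
        mul_left_comm]⟩)
    rw [← LocalizedModule.zero_mk 1, LocalizedModule.mk_eq] at this
    obtain ⟨u, hu⟩ := this
    exact ⟨u, by simpa [Submonoid.smul_def] using hu⟩
  have hmemT : ∀ g : T, (g : R) ∈ a := fun g => hT ▸ Submodule.subset_span g.2
  choose u hu using fun g : T => hkill g (hmemT g)
  have hzero : ∀ r ∈ a, r • y = 0 := by
    have hle : a ≤ ann (((∏ g, u g : S) : R) • y) := by
      rw [← hT, Submodule.span_le]
      intro g hg
      simp only [ann, SetLike.mem_coe, LinearMap.mem_ker, LinearMap.toSpanSingleton_apply]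
      rw [← Finset.prod_erase_mul Finset.univ u (Finset.mem_univ ⟨g, hg⟩), Submonoid.coe_mul,
        smul_comm, mul_smul, hu ⟨g, hg⟩, smul_zero]
    exact fun r hr => hstab (∏ g, u g) r (LinearMap.mem_ker.mp (hle hr))
  have hy0 : y ≠ 0 := fun h0 => hx (by
    rw [← LocalizedModule.zero_mk 1, LocalizedModule.mk_eq]
    exact ⟨t, by simp [Submonoid.smul_def, ← hy, h0]⟩)
  obtain ⟨r, hr, hr0⟩ := hN y hy0
  exact hr0 (hzero r (by simpa [a] using hr))

theorem isInjectiveHull_map {M : Type u} [AddCommGroup M] [Module R M] {f : M →ₗ[R] E}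
    (hf : _root_.InjHull.IsInjectiveHull f) :
    _root_.InjHull.IsInjectiveHull (LocalizedModule.map S f) := by
  have hi : Module.Injective R E := hf.isInjective
  refine ⟨isEssentialInj_iff.mpr ⟨LocalizedModule.map_injective S f hf.injective, fun z hz => ?_⟩,
    Module.injective_of_isLocalizedModule S (LocalizedModule.mkLinearMap S E)⟩
  induction z using LocalizedModule.induction_on with
  | h x s =>
    obtain ⟨c, n, ⟨m, rfl⟩, hc, hn0⟩ := exists_smul_localized S
      (isEssentialInj_iff.mp hf.toIsEssentialInj).2 x s hz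
    exact ⟨c, ⟨LocalizedModule.mk m 1, by rw [hc, LocalizedModule.map_mk]⟩, by rwa [hc]⟩

end Localized

/-- Over the residue ring at a maximal ideal: a nonzero element killed by `m` that generates an
essential submodule of an injective module yields an injective hull of `R ⧸ m`. -/
theorem exists_hull_of_socle_elem {m : Ideal R} [m.IsMaximal] (hinj : Module.Injective R E)
    {e : E} (he0 : e ≠ 0) (he : ∀ a ∈ m, a • e = 0)
    (hess : ∀ x : E, x ≠ 0 → ∃ r c : R, r • x = c • e ∧ r • x ≠ 0) :
    ∃ g : (R ⧸ m) →ₗ[R] E, _root_.InjHull.IsInjectiveHull g ∧ g 1 = e := by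
  let g : (R ⧸ m) →ₗ[R] E := Submodule.liftQ m (LinearMap.toSpanSingleton R E e)
    (fun a ha => by simpa using he a ha)
  have hg : ∀ a : R, g (Ideal.Quotient.mk m a) = a • e := fun a => rfl
  refine ⟨g, ⟨isEssentialInj_iff.mpr ⟨?_, ?_⟩, hinj⟩, ?_⟩
  · rw [← LinearMap.ker_eq_bot, Submodule.eq_bot_iff]
    intro z hz
    obtain ⟨a, rfl⟩ := Ideal.Quotient.mk_surjective z
    rw [LinearMap.mem_ker, hg] at hz
    by_contra ha
    rw [Ideal.Quotient.eq_zero_iff_mem] at ha
    obtain ⟨b, i, hi, hbi⟩ := Ideal.IsMaximal.exists_inv ‹m.IsMaximal› ha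
    apply he0
    calc e = (b * a + i) • e := by rw [hbi, one_smul]
      _ = 0 := by rw [add_smul, mul_smul, hz, smul_zero, he i hi, add_zero]
  · intro x hx
    obtain ⟨r, c, hrc, hr0⟩ := hess x hx
    exact ⟨r, ⟨Ideal.Quotient.mk m c, by rw [hg, hrc]⟩, hr0⟩
  · exact (hg 1).trans (one_smul _ _)

theorem injective_torsionBy (b : Ideal R) (hinj : Module.Injective R E) :
    Module.Injective (R ⧸ b) (LocCoh.torsionBy b E) := by
  refine ⟨fun X Y _ _ _ _ i hi g => ?_⟩
  let : Module R X := Module.compHom X (Ideal.Quotient.mk b)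
  have : IsScalarTower R (R ⧸ b) X := IsScalarTower.of_algebraMap_smul fun _ _ => rfl
  let : Module R Y := Module.compHom Y (Ideal.Quotient.mk b)
  have : IsScalarTower R (R ⧸ b) Y := IsScalarTower.of_algebraMap_smul fun _ _ => rfl
  obtain ⟨l, hl⟩ := extend hinj (i.restrictScalars R) hi
    ((LocCoh.torsionBy b E).subtype.comp (g.restrictScalars R))
  have hlb : ∀ y, l y ∈ LocCoh.torsionBy b E := fun y =>
    (Submodule.mem_torsionBySet_iff _ _).mpr fun a => by
      have hya : (a : R) • y = 0 := by
        change Ideal.Quotient.mk b (a : R) • y = 0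
        rw [Ideal.Quotient.eq_zero_iff_mem.mpr a.2, zero_smul]
      rw [← map_smul, hya, map_zero]
  refine ⟨{ toFun := fun y => ⟨l y, hlb y⟩
            map_add' := fun x y => Subtype.ext (map_add l x y)
            map_smul' := fun c y => ?_ }, fun x => Subtype.ext (LinearMap.congr_fun hl x)⟩
  obtain ⟨a, rfl⟩ := Ideal.Quotient.mk_surjective c
  exact Subtype.ext (map_smul l a y)

end Groth.Agent.InjHull.Prime
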