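import Groth.Agent.InjHull.Prime
import Groth.Agent.InjHull.Matlis
import Groth.Agent.InjHull.Basic
import Mathlib.RingTheory.Artinian.Module
import Mathlib.RingTheory.IntegralClosure.IsIntegralClosure.Basic
import Mathlib.Algebra.Module.Torsion.Basic

/-!
# Torsion decomposition of an injective module over a semilocal ring
-/

universe u v

open IsLocalRing

namespace Groth.Agent.InjHull.Semilocal

variable {B : Type u} [CommRing B] {H : Type u} [AddCommGroup H] [Module B H]

/-- the `n`-power torsion part -/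
def part (H : Type u) [AddCommGroup H] [Module B H] (n : Ideal B) : Submodule B H where
  carrier := {h | ∃ k : ℕ, ∀ b ∈ n ^ k, b • h = 0}
  zero_mem' := ⟨0, fun b _ => smul_zero b⟩
  add_mem' := fun {x y} ⟨k, hk⟩ ⟨l, hl⟩ => ⟨k + l, fun b hb => by
    rw [smul_add, hk b (Ideal.pow_le_pow_right (by omega) hb),
      hl b (Ideal.pow_le_pow_right (by omega) hb), add_zero]⟩
  smul_mem' := fun c x ⟨k, hk⟩ => ⟨k, fun b hb => by rw [smul_comm, hk b hb, smul_zero]⟩

theorem isUnit_sup {n n' : Ideal B} [n.IsMaximal] [n'.IsMaximal] (h : n ≠ n') (k l : ℕ) :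
    n ^ k ⊔ n' ^ l = ⊤ :=
  Ideal.pow_sup_pow_eq_top (Ideal.IsMaximal.coprime_of_ne inferInstance inferInstance h)

variable [Finite (MaximalSpectrum B)]

theorem part_iSupIndep :
    iSupIndep fun n : MaximalSpectrum B => part H n.asIdeal := by
  classical
  intro n
  rw [disjoint_iff, Submodule.eq_bot_iff]
  rintro x ⟨⟨k, hk⟩, hx⟩
  -- the other summands are killed by an ideal comaximal with `n ^ k`
  suffices h : ∃ c : Ideal B, c ⊔ n.asIdeal ^ k = ⊤ ∧ ∀ b ∈ c, b • x = 0 by
    obtain ⟨c, hc, hcx⟩ := h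
    obtain ⟨a, ha, b, hb, hab⟩ := Submodule.mem_sup.mp ((Ideal.eq_top_iff_one _).mp hc)
    rw [← one_smul B x, ← hab, add_smul, hcx a ha, hk b hb, add_zero]
  clear hk
  have hx' : x ∈ ⨆ (j : MaximalSpectrum B) (_ : j ≠ n), part H j.asIdeal := hx
  rw [iSup_subtype'] at hx'
  clear hx
  induction hx' using Submodule.iSup_induction' with
  | mem j y hy =>
    obtain ⟨l, hl⟩ := hy
    exact ⟨_, isUnit_sup (fun h => j.2 (MaximalSpectrum.ext h)) l k, hl⟩
  | zero => exact ⟨⊤, top_sup_eq _, fun b _ => smul_zero b⟩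
  | add y z _ _ hy hz =>
    obtain ⟨c, hc, hcy⟩ := hy
    obtain ⟨c', hc', hcz⟩ := hz
    refine ⟨c * c', ?_, fun b hb => ?_⟩
    · rw [sup_comm] at hc hc' ⊢
      rw [Ideal.sup_mul_eq_of_coprime_left hc]
      exact hc'
    · rw [smul_add, hcy b (Ideal.mul_le_inf hb).1, hcz b (Ideal.mul_le_inf hb).2, add_zero]

theorem iSup_part (hpt : ∀ h : H, ∃ J : Ideal B, IsArtinianRing (B ⧸ J) ∧ ∀ b ∈ J, b • h = 0) :
    ⨆ n : MaximalSpectrum B, part H n.asIdeal = ⊤ := by
  classical
  refine eq_top_iff.mpr fun h _ => ?_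
  obtain ⟨J, hJ, hJh⟩ := hpt h
  let := Fintype.ofFinite (MaximalSpectrum B)
  -- a product of powers of all maximal ideals lies in `J`
  obtain ⟨k, hk⟩ : ∃ k : ℕ, (⊥ : Ideal B).jacobson ^ k ≤ J := by
    obtain ⟨k, hk⟩ := IsSemiprimaryRing.isNilpotent (R := B ⧸ J)
    refine ⟨k, fun b hb => Ideal.Quotient.eq_zero_iff_mem.mp ?_⟩
    have hle : (⊥ : Ideal B).jacobson.map (Ideal.Quotient.mk J) ≤ Ring.jacobson (B ⧸ J) := by
      rw [Ideal.map_le_iff_le_comap]
      intro c hc
      rw [Ideal.mem_comap, Ring.jacobson_eq_sInf_isMaximal]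
      refine Submodule.mem_sInf.mpr fun (M : Ideal (B ⧸ J)) hM => ?_
      have : Ideal.IsMaximal M := hM
      have hM' : (Ideal.comap (Ideal.Quotient.mk J) M).IsMaximal :=
        Ideal.comap_isMaximal_of_surjective _ Ideal.Quotient.mk_surjective
      exact (Submodule.mem_sInf.mp hc) (Ideal.comap (Ideal.Quotient.mk J) M) ⟨bot_le, hM'⟩
    have h1 := Ideal.mem_map_of_mem (Ideal.Quotient.mk J) hb
    rw [Ideal.map_pow] at h1
    have h2 : Ideal.Quotient.mk J b ∈ (Ring.jacobson (B ⧸ J)) ^ k := Ideal.pow_right_mono hle k h1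
    rw [hk] at h2
    exact h2
  have hinf : (⨅ n ∈ (Finset.univ : Finset (MaximalSpectrum B)), n.asIdeal ^ k) ≤ J := by
    refine le_trans (le_of_eq ?_) hk
    have hjac : (⊥ : Ideal B).jacobson = ⨅ n ∈ (Finset.univ : Finset (MaximalSpectrum B)), n.asIdeal := by
      rw [Ideal.jacobson]
      refine le_antisymm (le_iInf₂ fun n _ => sInf_le ⟨bot_le, n.isMaximal⟩)
        (le_sInf fun M ⟨_, hM⟩ => iInf₂_le (⟨M, hM⟩ : MaximalSpectrum B) (Finset.mem_univ _))
    rw [hjac]
    have hcop : Set.Pairwise ((Finset.univ : Finset (MaximalSpectrum B)) : Set (MaximalSpectrum B))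
        (Function.onFun IsCoprime fun i : MaximalSpectrum B => i.asIdeal ^ k) := fun i _ j _ hij =>
      Ideal.isCoprime_iff_sup_eq.mpr (isUnit_sup (fun h => hij (MaximalSpectrum.ext h)) k k)
    have hcop1 : Set.Pairwise ((Finset.univ : Finset (MaximalSpectrum B)) : Set (MaximalSpectrum B))
        (Function.onFun IsCoprime fun i : MaximalSpectrum B => i.asIdeal) := fun i _ j _ hij =>
      Ideal.isCoprime_iff_sup_eq.mpr
        (Ideal.IsMaximal.coprime_of_ne i.isMaximal j.isMaximal fun h => hij (MaximalSpectrum.ext h))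
    rw [← Ideal.prod_eq_iInf_of_pairwise_isCoprime hcop,
      ← Ideal.prod_eq_iInf_of_pairwise_isCoprime hcop1, Finset.prod_pow]
  have hmem : h ∈ Submodule.torsionBySet B H
      ↑(⨅ n ∈ (Finset.univ : Finset (MaximalSpectrum B)), n.asIdeal ^ k) :=
    (Submodule.mem_torsionBySet_iff _ _).mpr fun b => hJh b (hinf b.2)
  rw [← Submodule.iSup_torsionBySet_ideal_eq_torsionBySet_iInf
    (fun i _ j _ hij => isUnit_sup (fun h => hij (MaximalSpectrum.ext h)) k k)] at hmem
  refine (iSup₂_le fun n _ => ?_ : _ ≤ ⨆ n : MaximalSpectrum B, part H n.asIdeal) hmem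
  exact le_iSup_of_le n fun y hy => ⟨k, fun b hb => (Submodule.mem_torsionBySet_iff _ _).mp hy ⟨b, hb⟩⟩

theorem exists_hull [IsNoetherianRing B] (hinj : Module.Injective B H)
    (hpt : ∀ h : H, ∃ J : Ideal B, IsArtinianRing (B ⧸ J) ∧ ∀ b ∈ J, b • h = 0)
    (n : MaximalSpectrum B) (e : H) (he0 : e ≠ 0) (he : ∀ a ∈ n.asIdeal, a • e = 0)
    (hsoc : ∀ x : H, (∀ a ∈ n.asIdeal, a • x = 0) → ∃ c : B, c • e = x) :
    ∃ g : (B ⧸ n.asIdeal) →ₗ[B] part H n.asIdeal, _root_.InjHull.IsInjectiveHull g := by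
  classical
  have he1 : e ∈ part H n.asIdeal := ⟨1, fun b hb => he b (by rwa [pow_one] at hb)⟩
  have hind : iSupIndep fun n : MaximalSpectrum B => part H n.asIdeal := part_iSupIndep
  have hcompl : IsCompl (part H n.asIdeal) (⨆ (j : MaximalSpectrum B) (_ : j ≠ n), part H j.asIdeal) := by
    refine ⟨hind n, codisjoint_iff.mpr (eq_top_iff.mpr ?_)⟩
    rw [← iSup_part hpt]
    refine iSup_le fun j => ?_
    by_cases hj : j = n
    · exact hj ▸ le_sup_left
    · exact le_sup_of_le_right (le_iSup₂_of_le j hj le_rfl)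
  have hJ : Module.Injective B (part H n.asIdeal) := by
    refine ⟨fun X Y _ _ _ _ i hi g => ?_⟩
    obtain ⟨l, hl⟩ := hinj.out i hi ((part H n.asIdeal).subtype.comp g)
    refine ⟨(Submodule.linearProjOfIsCompl _ _ hcompl).comp l, fun x => ?_⟩
    rw [LinearMap.comp_apply, hl x]
    exact Submodule.linearProjOfIsCompl_apply_left hcompl (g x)
  obtain ⟨g, hg, -⟩ := Prime.exists_hull_of_socle_elem (m := n.asIdeal) hJ (e := ⟨e, he1⟩)
    (fun h => he0 (congrArg Subtype.val h)) (fun a ha => Subtype.ext (he a ha)) (by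
    intro x hx
    obtain ⟨k, hk⟩ := x.2
    induction k generalizing x with
    | zero =>
      refine absurd (Subtype.ext ?_) hx
      simpa using hk 1 (by simp)
    | succ k ih =>
      by_cases hall : ∀ a ∈ n.asIdeal, a • (x : H) = 0
      · obtain ⟨c, hc⟩ := hsoc _ hall
        exact ⟨1, c, Subtype.ext (by simp [hc]), by rwa [one_smul]⟩
      · push Not at hall
        obtain ⟨a, ha, hax⟩ := hall
        obtain ⟨r, c, hrc, hr0⟩ := ih (a • x) (fun h => hax (congrArg Subtype.val h)) fun b hb => by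
          rw [Submodule.coe_smul, smul_smul]
          exact hk _ (by rw [pow_succ]; exact Ideal.mul_mem_mul hb ha)
        exact ⟨r * a, c, by rw [mul_smul]; exact hrc, by rw [mul_smul]; exact hr0⟩)
  exact ⟨g, hg⟩

end Groth.Agent.InjHull.Semilocal
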